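import Groth.Agent.DPF49.ProjL
import Groth.Agent.Mod48.PullUnit
import Groth.Agent.Mod48.Tensor
import Groth.Agent.FlatModel41.Exactness
import Groth.Agent.PerfFib24.PerfTensor
import Mathlib.Algebra.Homology.BifunctorShift
import Mathlib.Algebra.Homology.HomotopyCategory.SingleFunctors
import Mathlib.Algebra.Homology.HomotopyCategory.KInjective

/-!
The projection map is invertible at the structure sheaf.
-/

set_option autoImplicit false
set_option backward.isDefEq.respectTransparency false
set_option linter.style.haveILetI false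

noncomputable section

universe u

open CategoryTheory CategoryTheory.Limits AlgebraicGeometry
attribute [local instance] HasDerivedCategory.standard

namespace Groth.Agent.DPF49

section Summand

variable {A₁ A₂ B : Type*} [Category* A₁] [Category* A₂] [Category* B] [Preadditive A₁] [Preadditive A₂]
  [Preadditive B] (F : A₁ ⥤ A₂ ⥤ B) [F.PreservesZeroMorphisms] [∀ M, (F.obj M).PreservesZeroMorphisms]
  (K : CochainComplex A₁ ℤ) (L : CochainComplex A₂ ℤ) [HomologicalComplex.HasMapBifunctor K L F (ComplexShape.up ℤ)]

open HomologicalComplex in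
/-- The only non-zero summand is the whole. -/
lemma isIso_ι_of_isZero (n i j : ℤ)
    (h : ComplexShape.π (ComplexShape.up ℤ) (ComplexShape.up ℤ) (ComplexShape.up ℤ) (i, j) = n)
    (hz : ∀ p, p ≠ i → IsZero (K.X p)) : IsIso (ιMapBifunctor K L F (ComplexShape.up ℤ) i j n h) := by
  refine ⟨mapBifunctorDesc fun p q hpq => if hp : p = i then
      eqToHom (by
        obtain rfl : q = j := by change p + q = n at hpq; change i + j = n at h; omega
        rw [hp]) else 0, ?_, ?_⟩
  · rw [ι_mapBifunctorDesc, dif_pos rfl, eqToHom_refl]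
  · refine mapBifunctor.hom_ext fun p q hpq => ?_
    rw [← Category.assoc, ι_mapBifunctorDesc, Category.comp_id]
    by_cases hp : p = i
    · subst hp
      obtain rfl : q = j := by change p + q = n at hpq; change p + j = n at h; omega
      rw [dif_pos rfl, eqToHom_refl, Category.id_comp]
    · exact ((F.flip.obj (L.X q)).map_isZero (hz p hp)).eq_of_src _ _

end Summand

variable {X Y : Scheme.{u}} (f : X ⟶ Y)

local notation "p" => Scheme.Modules.pushforward f
local notation "q" => Scheme.Modules.pullback f
local notation "adj" => Scheme.Modules.pullbackPushforwardAdjunction f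

/-- `O ⊗ N ≅ N`. -/
def lam (X : Scheme.{u}) : (DCoh.tensorBi (X := X)).obj (Coh.structureModule X) ≅ 𝟭 X.Modules :=
  Mod48.tLIso (O := X.sheaf) (ModSite.unit X.sheaf) ≪≫ Mod48.tensUnit (O := X.sheaf)

/-- `f^* O ≅ O`. -/
def qUnit : (q).obj (Coh.structureModule Y) ≅ Coh.structureModule X :=
  ((ModSite.RMor.ofSchemePull f).app (Coh.structureModule Y)).symm ≪≫
    Mod48.pullUnitIso (ModSite.RMor.ofScheme f)

/-- `f^* O ⊗ M ≅ M`. -/
def kap : (DCoh.tensorBi (X := X)).obj ((q).obj (Coh.structureModule Y)) ≅ 𝟭 X.Modules :=
  (DCoh.tensorBi (X := X)).mapIso (qUnit f) ≪≫ lam X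

/-- The automorphism of `f^*` given by the two unit laws. -/
def unitAuto : (q) ≅ (q) :=
  NatIso.ofComponents
    (fun N => (q).mapIso ((lam Y).app N).symm ≪≫
      (DCK91.pullTensBi f (Coh.structureModule Y) N).symm ≪≫ (kap f).app ((q).obj N))
    (fun {N N'} g => by
      have h1 := congrArg (q).map ((lam Y).inv.naturality g)
      have h2 : (q).map (((DCoh.tensorBi (X := Y)).obj (Coh.structureModule Y)).map g) ≫
          (DCK91.pullTensBi f (Coh.structureModule Y) N').inv =
          (DCK91.pullTensBi f (Coh.structureModule Y) N).inv ≫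
            ((DCoh.tensorBi (X := X)).obj ((q).obj (Coh.structureModule Y))).map ((q).map g) := by
        rw [Iso.comp_inv_eq, Category.assoc, DCK91.pullTens_right, Iso.inv_hom_id_assoc]
      have h3 := (kap f).hom.naturality ((q).map g)
      simp only [Functor.id_map, Functor.map_comp] at h1 h3
      simp only [Iso.trans_hom, Functor.mapIso_hom, Iso.symm_hom, Iso.app_inv, Iso.app_hom, Category.assoc]
      rw [reassoc_of% h1, reassoc_of% h2, h3])

/-- **The projection map at the structure sheaf.** -/
theorem isIso_projL_unit (M : X.Modules) : IsIso (projL f (Coh.structureModule Y) M) := by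
  let u := unitAuto f
  let v : (p).obj M ⟶ (p).obj M :=
    (adj).homEquiv _ _ (u.hom.app ((p).obj M) ≫ (adj).counit.app M)
  have hv : IsIso v := by
    have : v = (conjugateEquiv (adj) (adj) u.hom).app M := by
      rw [conjugateEquiv_apply_app]
      simp only [v, Adjunction.homEquiv_unit, Functor.map_comp]
    rw [this]
    infer_instance
  have h : projL f (Coh.structureModule Y) M =
      (lam Y).hom.app ((p).obj M) ≫ v ≫ (p).map ((kap f).inv.app M) := by
    have hk : (DCoh.tensorBi.obj ((q).obj (Coh.structureModule Y))).map ((adj).counit.app M) =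
        (kap f).hom.app _ ≫ (adj).counit.app M ≫ (kap f).inv.app M := by
      have := (kap f).hom.naturality ((adj).counit.app M)
      simp only [Functor.id_map] at this
      rw [← reassoc_of% this, Iso.hom_inv_id_app, Category.comp_id]
    have hu : u.hom.app ((p).obj M) = (q).map ((lam Y).inv.app ((p).obj M)) ≫
        (DCK91.pullTensBi f (Coh.structureModule Y) ((p).obj M)).inv ≫ (kap f).hom.app _ := rfl
    have hq : projLTr f (Coh.structureModule Y) M =
        (q).map ((lam Y).hom.app ((p).obj M)) ≫ (u.hom.app ((p).obj M) ≫ (adj).counit.app M) ≫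
          (kap f).inv.app M := by
      rw [hu]
      simp only [Category.assoc]
      rw [← Functor.map_comp_assoc, Iso.hom_inv_id_app, CategoryTheory.Functor.map_id, Category.id_comp,
        projLTr, hk]
    exact ((congrArg ((adj).homEquiv _ _) hq).trans ((adj).homEquiv_naturality_left _ _)).trans
      (congrArg (_ ≫ ·) ((adj).homEquiv_naturality_right _ _))
  rw [h]
  infer_instance

/-- The complex with the structure sheaf in degree `n`. -/
abbrev unitCx (X : Scheme.{u}) (n : ℤ) : CochainComplex X.Modules ℤ :=
  (HomologicalComplex.single X.Modules (ComplexShape.up ℤ) n).obj (Coh.structureModule X)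

lemma isZero_unitCx_X (X : Scheme.{u}) (n i : ℤ) (h : i ≠ n) : IsZero ((unitCx X n).X i) :=
  HomologicalComplex.isZero_single_obj_X _ _ _ _ h

/-- `O[-n]` is a K-flat complex with flat terms. -/
theorem kff_unitCx (X : Scheme.{u}) (n : ℤ) :
    ModSite.IsKFlat (O := X.sheaf) (unitCx X n) ∧ ∀ i, ModSite.IsFlat (O := X.sheaf) ((unitCx X n).X i) := by
  have hfl : ∀ i, ModSite.IsFlat (O := X.sheaf) ((unitCx X n).X i) := fun i => by
    by_cases h : i = n
    · subst h
      exact Mod48.isFlat_of_iso (O := X.sheaf)
        (HomologicalComplex.singleObjXSelf (ComplexShape.up ℤ) i (Coh.structureModule X)).symm DerComp18.isFlat_unit'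
    · exact Mod48.isFlat_of_isZero (O := X.sheaf) (isZero_unitCx_X X n i h)
  exact ⟨DCK91.isKFlat_of_le (O := X.sheaf) _ n ((CochainComplex.isStrictlyLE_iff (C := X.Modules) _ n).2
    fun i hi => isZero_unitCx_X X n i (by omega)) hfl, hfl⟩

/-- The projection map of complexes at the structure sheaf. -/
theorem isIso_projLCx_unit (n : ℤ) (I : CochainComplex X.Modules ℤ) :
    IsIso (projLCx f (unitCx Y n) I) := by
  haveI : ∀ m, IsIso ((projLCx f (unitCx Y n) I).f m) := fun m => by
    let hπ : ComplexShape.π (ComplexShape.up ℤ) (ComplexShape.up ℤ) (ComplexShape.up ℤ) (n, m - n) = m := by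
      change n + (m - n) = m
      omega
    haveI := isIso_ι_of_isZero (DCoh.tensorBi (X := Y))
      (((𝟭 Y.Modules).mapHomologicalComplex (ComplexShape.up ℤ)).obj (unitCx Y n))
      (((p).mapHomologicalComplex (ComplexShape.up ℤ)).obj I) m n (m - n) hπ (fun i hi => isZero_unitCx_X Y n i hi)
    haveI := isIso_ι_of_isZero (DCoh.tensorBi (X := X))
      (((q).mapHomologicalComplex (ComplexShape.up ℤ)).obj (unitCx Y n))
      (((𝟭 X.Modules).mapHomologicalComplex (ComplexShape.up ℤ)).obj I) m n (m - n) hπ
      (fun i hi => (q).map_isZero (isZero_unitCx_X Y n i hi))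
    have hα : IsIso (projL f ((unitCx Y n).X n) (I.X (m - n))) := by
      let e : (unitCx Y n).X n ≅ Coh.structureModule Y :=
        HomologicalComplex.singleObjXSelf (ComplexShape.up ℤ) n (Coh.structureModule Y)
      haveI := isIso_projL_unit f (I.X (m - n))
      have hn := projL_left f e.hom (I.X (m - n))
      exact IsIso.of_isIso_fac_right hn.symm
    have hc := HTor49.ι_totCmpApp (DCoh.tensorBi (X := X)) (DCoh.tensorBi (X := Y)) (q) (𝟭 X.Modules)
      (𝟭 Y.Modules) (p) (p) (projL f) (unitCx Y n) I n (m - n) m hπ
    exact IsIso.of_isIso_fac_left hc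
  exact HomologicalComplex.Hom.isIso_of_components _

/-- Tensoring a K-injective complex with `O[-n]` gives a K-injective complex. -/
theorem isKInjective_pull_unit (n : ℤ) (I : CochainComplex X.Modules ℤ) (hI : I.IsKInjective) :
    ((DCoh.tensorCx.obj (((q).mapHomologicalComplex (ComplexShape.up ℤ)).obj (unitCx Y n))).obj I).IsKInjective := by
  let S := HomologicalComplex.single X.Modules (ComplexShape.up ℤ)
  let T := (DCoh.tensorCx (X := X)).flip.obj I
  obtain ⟨e₀⟩ := PerfFib24.nonempty_unit_tensor I
  let e : (DCoh.tensorCx.obj (((q).mapHomologicalComplex (ComplexShape.up ℤ)).obj (unitCx Y n))).obj I ≅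
      I⟦-n⟧ :=
    T.mapIso ((HomologicalComplex.singleMapHomologicalComplex (q) (ComplexShape.up ℤ) n).app (Coh.structureModule Y) ≪≫
      (S n).mapIso (qUnit f) ≪≫
      (((CochainComplex.singleFunctors X.Modules).shiftIso (-n) n 0 (by omega)).app (Coh.structureModule X)).symm) ≪≫
    CochainComplex.mapBifunctorShift₁Iso _ I (DCoh.tensorBi (X := X)) (-n) ≪≫
    (shiftFunctor (CochainComplex X.Modules ℤ) (-n)).mapIso e₀
  haveI := hI
  exact CochainComplex.isKInjective_of_iso e.symm

end Groth.Agent.DPF49
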