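import Groth.Agent.DR39.Telescope
import Groth.Agent.DR39.Hom
import Groth.Agent.DR39.Perf
import Mathlib.Logic.Small.Basic
import Mathlib.CategoryTheory.Triangulated.Yoneda

/-!
The derived category of modules is the smallest localising class containing the ring.
-/

set_option autoImplicit false
set_option linter.style.haveILetI false

noncomputable section

universe u

open CategoryTheory CategoryTheory.Limits CategoryTheory.Pretriangulated
attribute [local instance] HasDerivedCategory.standard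

namespace Groth.Agent.DPF49.Gen

open Groth.Agent.DR39

variable {A : Type u} [CommRing A]

/-- The shifts of the ring. -/
abbrev K (n : ℤ) : Dual.D A :=
  (DerivedCategory.singleFunctor (ModuleCat.{u} A) n).obj (ModuleCat.of A A)

/-- `K n` is `K 0` shifted. -/
def kShift (a n m : ℤ) (h : a + n = m) : (K (A := A) m)⟦a⟧ ≅ K n :=
  ((DerivedCategory.singleFunctors (ModuleCat.{u} A)).shiftIso a n m h).app (ModuleCat.of A A)

/-- Maps out of `K n` are elements of a module. -/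
def homEquivH (n : ℤ) (Y : Dual.D A) :
    (K n ⟶ Y) ≃ (ModuleCat.of A A ⟶ (DerivedCategory.homologyFunctor (ModuleCat.{u} A) 0).obj (Y⟦n⟧)) :=
  haveI : Projective (ModuleCat.of A A) := (IsProjective.iff_projective (R := A) _).1 inferInstance
  ((Functor.FullyFaithful.ofFullyFaithful (shiftFunctor (Dual.D A) n)).homEquiv.trans
    ((kShift n 0 n (add_zero n)).homCongr (Iso.refl _))).trans
      (Equiv.ofBijective _ (homToH0_bijective (ModuleCat.of A A) (Y⟦n⟧)))

instance small_hom (n : ℤ) (Y : Dual.D A) : Small.{u} (K n ⟶ Y) :=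
  small_of_injective (homEquivH n Y).injective

lemma isZero_of_forall {Y : Dual.D A} (h : ∀ (n : ℤ) (e : K n ⟶ Y), e = 0) : IsZero Y := by
  have hz : ∀ n : ℤ, IsZero ((DerivedCategory.homologyFunctor (ModuleCat.{u} A) n).obj Y) := fun n => by
    refine IsZero.of_iso ?_
      (((DerivedCategory.homologyFunctor (ModuleCat.{u} A) 0).shiftIso n 0 n (add_zero n)).app Y).symm
    change IsZero ((DerivedCategory.homologyFunctor (ModuleCat.{u} A) 0).obj (Y⟦n⟧))
    refine @ModuleCat.isZero_of_subsingleton _ _ _ ⟨fun a b => ?_⟩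
    haveI : Subsingleton (K n ⟶ Y) := ⟨fun e e' => (h n e).trans (h n e').symm⟩
    haveI := (homEquivH n Y).symm.subsingleton
    have hab : ModuleCat.ofHom (LinearMap.toSpanSingleton A _ a) = ModuleCat.ofHom (LinearMap.toSpanSingleton A _ b) :=
      Subsingleton.elim _ _
    simpa using LinearMap.congr_fun (congrArg ModuleCat.Hom.hom hab) 1
  have : IsIso (0 : Y ⟶ Y) := by
    rw [DerivedCategory.isIso_iff]
    exact fun n => ⟨0, (hz n).eq_of_src _ _, (hz n).eq_of_src _ _⟩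
  rw [IsZero.iff_id_eq_zero, ← cancel_epi (0 : Y ⟶ Y)]
  simp

lemma countSurj_K (n : ℤ) : CountSurj (K (A := A) n) := by
  classical
  have hp : DRing.IsPerfect A (K (A := A) n) := (DR39.perfect_iff_rep _).2
    ⟨n, n, Set.Icc_self n ▸ DR39.Rep.single DR39.isModClass_FP n ⟨inferInstanceAs (Module.Finite A A), inferInstanceAs (Module.Projective A A)⟩⟩
  intro E c hc y
  let E' : ULift.{u} ℕ → Dual.D A := fun i => E i.down
  let c' : Cofan fun i : ULift.{u + 1} (ULift.{u} ℕ) => E' i.down := Cofan.mk c.pt fun i => c.inj i.down.down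
  let hc' : IsColimit c' := Cofan.IsColimit.mk _ (fun s => Cofan.IsColimit.desc hc fun k => s.inj ⟨⟨k⟩⟩)
    (fun s j => Cofan.IsColimit.fac hc (fun k => s.inj ⟨⟨k⟩⟩) j.down.down)
    (fun s m hm => Cofan.IsColimit.hom_ext hc _ _ fun k =>
      (hm ⟨⟨k⟩⟩).trans (Cofan.IsColimit.fac hc (fun k => s.inj ⟨⟨k⟩⟩) k).symm)
  haveI : HasCoproduct fun i : ULift.{u + 1} (ULift.{u} ℕ) => E' i.down := ⟨⟨⟨_, hc'⟩⟩⟩
  let φ := (coproductIsCoproduct fun i : ULift.{u + 1} (ULift.{u} ℕ) => E' i.down).coconePointUniqueUpToIso hc'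
  have hφ : ∀ i, Sigma.ι (fun i : ULift.{u + 1} (ULift.{u} ℕ) => E' i.down) i ≫ φ.hom = c.inj i.down.down :=
    fun i => IsColimit.comp_coconePointUniqueUpToIso_hom _ hc' ⟨i⟩
  obtain ⟨s, hs⟩ := (DR39.compact_of_perfect hp (ULift.{u} ℕ) E').2 (y ≫ φ.inv)
  refine ⟨(DFinsupp.support s).map (Equiv.ulift.trans Equiv.ulift).toEmbedding, fun k => s ⟨⟨k⟩⟩, ?_⟩
  have : y = CohDer.homSumToHomCoprod (K n) _ s ≫ φ.hom := by
    rw [hs, Category.assoc, φ.inv_hom_id]; exact (Category.comp_id _).symm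
  rw [this]
  conv_lhs => rw [← DirectSum.sum_support_of s]
  rw [map_sum, Preadditive.sum_comp, Finset.sum_map]
  refine Finset.sum_congr rfl fun i _ => ?_
  rw [CohDer42.homSum_of, Category.assoc, hφ]
  rfl

lemma exists_cofan {I : Type u} (E : I → Dual.D A) : ∃ c : Cofan E, Nonempty (IsColimit c) := by
  choose X hX using fun i => exists_complex_iso (E i)
  obtain ⟨hl⟩ := isColimit_Q (coproductIsCoproduct X)
  exact ⟨Cofan.mk ((QA A).obj (∐ X)) fun i => (hX i).some.inv ≫ (QA A).map (Sigma.ι X i),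
    ⟨Cofan.IsColimit.mk _ (fun s => Cofan.IsColimit.desc hl fun i => (hX i).some.hom ≫ s.inj i)
      (fun s i => by
        rw [cofan_mk_inj, Category.assoc]
        refine (congrArg ((hX i).some.inv ≫ ·) (Cofan.IsColimit.fac hl _ i)).trans ?_
        rw [Iso.inv_hom_id_assoc])
      (fun s m hm => Cofan.IsColimit.hom_ext hl _ _ fun i => by
        rw [Cofan.IsColimit.fac, ← hm i]
        change (QA A).map (Sigma.ι X i) ≫ m = (hX i).some.hom ≫ ((hX i).some.inv ≫ (QA A).map (Sigma.ι X i)) ≫ m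
        simp only [← Category.assoc, Iso.hom_inv_id, Category.id_comp])⟩⟩

section Tower

variable (P : Dual.D A → Prop) (hK : ∀ n, P (K n))
  (hcone : ∀ T ∈ distTriang (Dual.D A), P T.obj₁ → P T.obj₂ → P T.obj₃)
  (hsum : ∀ {I : Type u} (E : I → Dual.D A) (c : Cofan E), IsColimit c → (∀ i, P (E i)) → P c.pt)
  (X : Dual.D A)

/-- A stage of the tower. -/
structure Stage where
  Y : Dual.D A
  π : Y ⟶ X
  hY : P Y

include hK hsum in
lemma exists_init : ∃ s : Stage P X, ∀ (n : ℤ) (e : K n ⟶ X), ∃ e' : K n ⟶ s.Y, e' ≫ s.π = e := by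
  let J := Shrink.{u} (Σ n : ℤ, (K n ⟶ X))
  let p : J → Σ n : ℤ, (K n ⟶ X) := fun j => (equivShrink _).symm j
  obtain ⟨c, ⟨hc⟩⟩ := exists_cofan fun j : J => K (A := A) (p j).1
  refine ⟨⟨c.pt, Cofan.IsColimit.desc hc fun j => (p j).2, hsum _ c hc fun j => hK _⟩, fun n e => ?_⟩
  have h : ∀ (q : Σ n : ℤ, (K n ⟶ X)) (j : J), p j = q →
      ∃ e' : K q.1 ⟶ c.pt, e' ≫ Cofan.IsColimit.desc hc (fun j => (p j).2) = q.2 := by
    rintro q j rfl
    exact ⟨c.inj j, Cofan.IsColimit.fac hc _ j⟩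
  exact h ⟨n, e⟩ (equivShrink _ ⟨n, e⟩) ((equivShrink _).symm_apply_apply _)

include hK hcone hsum in
lemma exists_step (s : Stage P X) : ∃ (s' : Stage P X) (f : s.Y ⟶ s'.Y),
    f ≫ s'.π = s.π ∧ ∀ (n : ℤ) (e : K n ⟶ s.Y), e ≫ s.π = 0 → e ≫ f = 0 := by
  let J := Shrink.{u} {q : Σ n : ℤ, (K n ⟶ s.Y) // q.2 ≫ s.π = 0}
  let p : J → {q : Σ n : ℤ, (K n ⟶ s.Y) // q.2 ≫ s.π = 0} := fun j => (equivShrink _).symm j
  obtain ⟨c, ⟨hc⟩⟩ := exists_cofan fun j : J => K (A := A) (p j).1.1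
  let φ : c.pt ⟶ s.Y := Cofan.IsColimit.desc hc fun j => (p j).1.2
  obtain ⟨Y', f, d, hT⟩ := distinguished_cocone_triangle φ
  have hφ : φ ≫ s.π = 0 := Cofan.IsColimit.hom_ext hc _ _ fun j => by
    rw [Cofan.IsColimit.fac_assoc, comp_zero]
    exact (p j).2
  obtain ⟨π', hπ'⟩ := Triangle.yoneda_exact₂ _ hT s.π hφ
  refine ⟨⟨Y', π', hcone _ hT (hsum _ c hc fun j => hK _) s.hY⟩, f, hπ'.symm, fun n e he => ?_⟩
  have h : ∀ (q : {q : Σ n : ℤ, (K n ⟶ s.Y) // q.2 ≫ s.π = 0}) (j : J), p j = q → q.1.2 ≫ f = 0 := by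
    rintro q j rfl
    rw [← Cofan.IsColimit.fac hc (fun j => (p j).1.2) j, Category.assoc]
    exact (congrArg (c.inj j ≫ ·) (comp_distTriang_mor_zero₁₂ _ hT)).trans comp_zero
  exact h ⟨⟨n, e⟩, he⟩ (equivShrink _ ⟨⟨n, e⟩, he⟩) ((equivShrink _).symm_apply_apply _)

include hK hcone hsum in
/-- A localising class which contains the shifts of the ring contains every object. -/
theorem forall_of_localizing (hiso : ∀ {Y Y' : Dual.D A}, (Y ≅ Y') → P Y → P Y') : P X := by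
  classical
  obtain ⟨s₀, hs₀⟩ := exists_init P hK hsum X
  choose nxt f hf hkill using exists_step P hK hcone hsum X
  let st : ℕ → Stage P X := fun k => Nat.rec s₀ (fun _ s => nxt s) k
  let F : ∀ k, (st k).Y ⟶ (st (k + 1)).Y := fun k => f (st k)
  obtain ⟨c₀, ⟨hc₀⟩⟩ := exists_cofan fun k : ULift.{u} ℕ => (st k.down).Y
  let c : Cofan fun k => (st k).Y := Cofan.mk c₀.pt fun k => c₀.inj ⟨k⟩
  let hc : IsColimit c := Cofan.IsColimit.mk _ (fun s => Cofan.IsColimit.desc hc₀ fun k => s.inj k.down)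
    (fun s k => Cofan.IsColimit.fac hc₀ (fun k => s.inj k.down) ⟨k⟩)
    (fun s m hm => Cofan.IsColimit.hom_ext hc₀ _ _ fun k =>
      (hm k.down).trans (Cofan.IsColimit.fac hc₀ (fun k => s.inj k.down) k).symm)
  let t : c.pt ⟶ c.pt := Cofan.IsColimit.desc hc fun k => c.inj k - F k ≫ c.inj (k + 1)
  have ht : ∀ k, c.inj k ≫ t = c.inj k - F k ≫ c.inj (k + 1) := fun k => Cofan.IsColimit.fac hc _ k
  obtain ⟨T, p, δ, hT⟩ := distinguished_cocone_triangle t
  have hPc : P c.pt := hsum _ c₀ hc₀ fun k => (st k.down).hY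
  have hPT : P T := hcone _ hT hPc hPc
  let g : c.pt ⟶ X := Cofan.IsColimit.desc hc fun k => (st k).π
  have hg : ∀ k, c.inj k ≫ g = (st k).π := fun k => Cofan.IsColimit.fac hc _ k
  have htg : t ≫ g = 0 := Cofan.IsColimit.hom_ext hc _ _ fun k => by
    rw [reassoc_of% ht, Preadditive.sub_comp, Category.assoc, hg, hg, comp_zero, sub_eq_zero]
    exact (hf (st k)).symm
  obtain ⟨q, hq'⟩ := Triangle.yoneda_exact₂ _ hT g htg
  have hq : p ≫ q = g := hq'.symm
  have hp : ∀ k, c.inj k ≫ p = F k ≫ c.inj (k + 1) ≫ p := fun k => by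
    have h0 : c.inj k ≫ t ≫ p = 0 := by
      rw [show t ≫ p = 0 from comp_distTriang_mor_zero₁₂ _ hT, comp_zero]
    rw [reassoc_of% ht, Preadditive.sub_comp, Category.assoc, sub_eq_zero] at h0
    exact h0
  have inj : ∀ (n : ℤ) (e : K n ⟶ T), e ≫ q = 0 → e = 0 := fun n e he => by
    have h3 : e ≫ δ = 0 := tel_injective (countSurj_K n) (E := fun k => ((st k).Y)⟦(1 : ℤ)⟧)
      (c := Cofan.mk (c.pt⟦(1 : ℤ)⟧) fun k => (c.inj k)⟦(1 : ℤ)⟧') (fun k => (F k)⟦(1 : ℤ)⟧')
      (isColimitCofanMkObjOfIsColimit (shiftFunctor (Dual.D A) (1 : ℤ)) _ _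
        (IsColimit.ofIsoColimit hc (Cofan.ext (Iso.refl _) (fun _ => Category.comp_id _))))
      (t⟦(1 : ℤ)⟧') (fun k => by
        show (c.inj k)⟦(1 : ℤ)⟧' ≫ _ = (c.inj k)⟦(1 : ℤ)⟧' - _ ≫ (c.inj (k + 1))⟦(1 : ℤ)⟧'
        rw [← Functor.map_comp, ht, Functor.map_sub, Functor.map_comp]) _ (by
        refine (Category.assoc _ _ _).trans ?_
        exact (congrArg (e ≫ ·) (comp_distTriang_mor_zero₃₁ _ hT)).trans comp_zero)
    obtain ⟨w, hw⟩ := Triangle.coyoneda_exact₃ _ hT e h3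
    obtain ⟨S, a, rfl⟩ := countSurj_K n _ c hc w
    have move : ∀ k N, k ≤ N → ∀ y : K n ⟶ (st k).Y,
        ∃ y' : K n ⟶ (st N).Y, y ≫ c.inj k ≫ p = y' ≫ c.inj N ≫ p := fun k N hkN y => by
      induction N, hkN using Nat.le_induction with
      | base => exact ⟨y, rfl⟩
      | succ N _ ih =>
        obtain ⟨y', hy'⟩ := ih
        exact ⟨y' ≫ F N, by rw [hy', hp N, Category.assoc]⟩
    choose m hm using fun k (hk : k ∈ S) => move k (S.sup id) (Finset.le_sup (f := id) hk) (a k)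
    have he' : e = (∑ k ∈ S.attach, m k.1 k.2) ≫ c.inj (S.sup id) ≫ p := by
      refine hw.trans ?_
      change (∑ k ∈ S, a k ≫ c.inj k) ≫ p = _
      rw [Preadditive.sum_comp, Preadditive.sum_comp, ← Finset.sum_attach]
      exact Finset.sum_congr rfl fun k _ => by rw [Category.assoc, hm k.1 k.2]
    rw [he', hp, ← Category.assoc]
    refine (congrArg (· ≫ _) (hkill (st (S.sup id)) n _ ?_)).trans zero_comp
    rw [← hg, ← hq]
    refine Eq.trans ?_ he
    rw [he']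
    exact (congrArg _ (Category.assoc _ _ _).symm).trans (Category.assoc _ _ _).symm
  have surj : ∀ (n : ℤ) (e : K n ⟶ X), ∃ e' : K n ⟶ T, e' ≫ q = e := fun n e => by
    obtain ⟨e', he'⟩ := hs₀ n e
    exact ⟨e' ≫ c.inj 0 ≫ p, ((Category.assoc e' (c.inj 0 ≫ p) q).trans
      (congrArg (e' ≫ ·) ((Category.assoc (c.inj 0) p q).trans ((congrArg (c.inj 0 ≫ ·) hq).trans (hg 0))))).trans he'⟩
  obtain ⟨C, r, d, hC⟩ := distinguished_cocone_triangle q
  have hz : IsZero C := isZero_of_forall fun n e => by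
    have h1 : e ≫ d = 0 := by
      obtain ⟨e₁, he₁⟩ := (shiftFunctor (Dual.D A) (1 : ℤ)).map_surjective
        ((kShift 1 n (n + 1) (add_comm _ _)).hom ≫ e ≫ d)
      have : e₁ ≫ q = 0 := (shiftFunctor (Dual.D A) (1 : ℤ)).map_injective (by
        rw [Functor.map_comp, he₁, Functor.map_zero, Category.assoc, Category.assoc,
          show d ≫ q⟦(1 : ℤ)⟧' = 0 from comp_distTriang_mor_zero₃₁ _ hC, comp_zero, comp_zero])
      rw [inj _ e₁ this] at he₁
      rw [← cancel_epi (kShift 1 n (n + 1) (add_comm _ _)).hom, comp_zero]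
      exact he₁.symm.trans (Functor.map_zero _ _ _)
    obtain ⟨h, rfl⟩ := Triangle.coyoneda_exact₃ _ hC e h1
    obtain ⟨h', rfl⟩ := surj n h
    exact (Category.assoc h' q r).trans
      ((congrArg (h' ≫ ·) (comp_distTriang_mor_zero₁₂ _ hC)).trans comp_zero)
  haveI : IsIso q := (Triangle.isZero₃_iff_isIso₁ _ hC).1 hz
  exact hiso (asIso q) hPT

end Tower

end Groth.Agent.DPF49.Gen
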