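import Groth.Agent.QExact41.TriLike
import Groth.Agent.DPF49.Gen
import Mathlib.Algebra.Homology.DerivedCategory.HomologySequence
import Mathlib.CategoryTheory.Abelian.DiagramLemmas.Four

/-!
A transformation of triangle preserving, coproduct preserving functors on `D(A)` is invertible as soon
as it is invertible on the shifts of `A`.
-/

set_option autoImplicit false
set_option linter.style.haveILetI false

noncomputable section

universe u w v u'

open CategoryTheory CategoryTheory.Limits CategoryTheory.Pretriangulated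
attribute [local instance] HasDerivedCategory.standard

namespace Groth.Agent.DPF49

section Five

variable {C : Type*} [Category C] [Abelian C] [HasDerivedCategory.{w} C]
  {B : Type u'} [Category.{v} B] [Abelian B] [HasDerivedCategory.{w} B]

lemma isIso_five {Φ₁ Φ₂ : DerivedCategory C ⥤ DerivedCategory B} (h₁ : QExact41.TriLike Φ₁)
    (h₂ : QExact41.TriLike Φ₂) (τ : Φ₁ ⟶ Φ₂) (T : Triangle (DerivedCategory C)) (hT : T ∈ distTriang _)
    (i₁ : IsIso (τ.app T.obj₁)) (i₂ : IsIso (τ.app T.obj₂)) (i₁' : IsIso (τ.app (T.obj₁⟦(1 : ℤ)⟧)))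
    (i₂' : IsIso (τ.app (T.obj₂⟦(1 : ℤ)⟧))) : IsIso (τ.app T.obj₃) := by
  obtain ⟨d, hd⟩ := h₁ T hT
  obtain ⟨d', hd'⟩ := h₁ _ (rot_of_distTriang _ hT)
  obtain ⟨d'', hd''⟩ := h₁ _ (rot_of_distTriang _ (rot_of_distTriang _ hT))
  obtain ⟨e, he⟩ := h₂ T hT
  obtain ⟨e', he'⟩ := h₂ _ (rot_of_distTriang _ hT)
  obtain ⟨e'', he''⟩ := h₂ _ (rot_of_distTriang _ (rot_of_distTriang _ hT))
  rw [DerivedCategory.isIso_iff]
  intro n
  let H := DerivedCategory.homologyFunctor B n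
  let m₄ := T.rotate.rotate.mor₂
  let R₁ : ComposableArrows B 4 :=
    ComposableArrows.mk₄ (H.map (Φ₁.map T.mor₁)) (H.map (Φ₁.map T.mor₂)) (H.map (Φ₁.map T.mor₃)) (H.map (Φ₁.map m₄))
  let R₂ : ComposableArrows B 4 :=
    ComposableArrows.mk₄ (H.map (Φ₂.map T.mor₁)) (H.map (Φ₂.map T.mor₂)) (H.map (Φ₂.map T.mor₃)) (H.map (Φ₂.map m₄))
  have nat : ∀ {a b : DerivedCategory C} (g : a ⟶ b),
      H.map (Φ₁.map g) ≫ H.map (τ.app b) = H.map (τ.app a) ≫ H.map (Φ₂.map g) := fun g => by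
    rw [← H.map_comp, τ.naturality, H.map_comp]
  let φ : R₁ ⟶ R₂ := ComposableArrows.homMk₄ (H.map (τ.app T.obj₁)) (H.map (τ.app T.obj₂)) (H.map (τ.app T.obj₃))
    (H.map (τ.app (T.obj₁⟦(1 : ℤ)⟧))) (H.map (τ.app (T.obj₂⟦(1 : ℤ)⟧))) (nat _) (nat _) (nat _) (nat _)
  have hR₁ : R₁.Exact := by
    refine ComposableArrows.exact_of_δ₀ ?_ (ComposableArrows.exact_of_δ₀ ?_ ?_)
    · exact (DerivedCategory.HomologySequence.exact₂ _ hd n).exact_toComposableArrows
    · exact (DerivedCategory.HomologySequence.exact₂ _ hd' n).exact_toComposableArrows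
    · exact (DerivedCategory.HomologySequence.exact₂ _ hd'' n).exact_toComposableArrows
  have hR₂ : R₂.Exact := by
    refine ComposableArrows.exact_of_δ₀ ?_ (ComposableArrows.exact_of_δ₀ ?_ ?_)
    · exact (DerivedCategory.HomologySequence.exact₂ _ he n).exact_toComposableArrows
    · exact (DerivedCategory.HomologySequence.exact₂ _ he' n).exact_toComposableArrows
    · exact (DerivedCategory.HomologySequence.exact₂ _ he'' n).exact_toComposableArrows
  haveI := i₁; haveI := i₂; haveI := i₁'; haveI := i₂'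
  exact Abelian.isIso_of_epi_of_isIso_of_isIso_of_mono hR₁ hR₂ φ (inferInstanceAs (Epi (H.map (τ.app T.obj₁))))
    (inferInstanceAs (IsIso (H.map (τ.app T.obj₂)))) (inferInstanceAs (IsIso (H.map (τ.app (T.obj₁⟦(1 : ℤ)⟧)))))
    (inferInstanceAs (Mono (H.map (τ.app (T.obj₂⟦(1 : ℤ)⟧)))))

end Five

variable {A : Type u} [CommRing A] {B : Type (u + 1)} [Category.{u} B] [Abelian B]
  [HasDerivedCategory.{u + 1} B]

/-- **Transformations invertible on `A` are invertible.** -/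
theorem isIso_of_isIso_gen {Φ₁ Φ₂ : Dual.D A ⥤ DerivedCategory B} (h₁ : QExact41.TriLike Φ₁)
    (h₂ : QExact41.TriLike Φ₂) (τ : Φ₁ ⟶ Φ₂)
    (hs₁ : ∀ {I : Type u} (E : I → Dual.D A), PreservesColimit (Discrete.functor E) Φ₁)
    (hs₂ : ∀ {I : Type u} (E : I → Dual.D A), PreservesColimit (Discrete.functor E) Φ₂)
    (hgen : ∀ n, IsIso (τ.app (Gen.K n))) (M : Dual.D A) : IsIso (τ.app M) := by
  let P : Dual.D A → Prop := fun M => ∀ n : ℤ, IsIso (τ.app (M⟦n⟧))
  have hiso : ∀ {Y Y' : Dual.D A}, (Y ≅ Y') → P Y → P Y' := fun e hY n =>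
    (NatTrans.isIso_app_iff_of_iso τ ((shiftFunctor (Dual.D A) n).mapIso e)).1 (hY n)
  have h : P M := Gen.forall_of_localizing P
    (fun k n => (NatTrans.isIso_app_iff_of_iso τ (Gen.kShift n (k - n) k (by omega))).2 (hgen (k - n)))
    (fun T hT h1 h2 n => by
      refine isIso_five h₁ h₂ τ _ (Triangle.shift_distinguished T hT n) (h1 n) (h2 n) ?_ ?_
      · exact (NatTrans.isIso_app_iff_of_iso τ ((shiftFunctorAdd' (Dual.D A) n 1 _ rfl).app T.obj₁)).1 (h1 (n + 1))
      · exact (NatTrans.isIso_app_iff_of_iso τ ((shiftFunctorAdd' (Dual.D A) n 1 _ rfl).app T.obj₂)).1 (h2 (n + 1)))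
    (fun {I} E c hc hE n => by
      let hc' := isColimitCofanMkObjOfIsColimit (shiftFunctor (Dual.D A) n) E _
        (hc.ofIsoColimit (Cofan.ext (Iso.refl _) (fun _ => Category.comp_id _) : c ≅ Cofan.mk c.pt c.inj))
      haveI := hs₁ fun i => (E i)⟦n⟧
      haveI := hs₂ fun i => (E i)⟦n⟧
      let hd₁ := isColimitCofanMkObjOfIsColimit Φ₁ (fun i => (E i)⟦n⟧) _ hc'
      let hd₂ := isColimitCofanMkObjOfIsColimit Φ₂ (fun i => (E i)⟦n⟧) _ hc'
      haveI : ∀ i, IsIso (τ.app ((E i)⟦n⟧)) := fun i => hE i n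
      refine ⟨Cofan.IsColimit.desc hd₂ fun i => inv (τ.app ((E i)⟦n⟧)) ≫ Φ₁.map ((c.inj i)⟦n⟧'), ?_, ?_⟩
      · refine Cofan.IsColimit.hom_ext hd₁ _ _ fun i => ?_
        change Φ₁.map ((c.inj i)⟦n⟧') ≫ _ = Φ₁.map ((c.inj i)⟦n⟧') ≫ _
        rw [← Category.assoc, τ.naturality, Category.assoc, Category.comp_id]
        refine (congrArg (τ.app _ ≫ ·) (Cofan.IsColimit.fac hd₂ _ i)).trans ?_
        rw [IsIso.hom_inv_id_assoc]
      · refine Cofan.IsColimit.hom_ext hd₂ _ _ fun i => ?_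
        rw [← Category.assoc, Cofan.IsColimit.fac, Category.assoc, τ.naturality, IsIso.inv_hom_id_assoc]
        exact (Category.comp_id _).symm)
    M hiso
  exact (NatTrans.isIso_app_iff_of_iso τ ((shiftFunctorZero (Dual.D A) ℤ).app M)).1 (h 0)

end Groth.Agent.DPF49
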