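import Groth.Agent.DPF49.Trans
import Groth.Agent.DPF49.UnitMap

/-!
The projection transformation is invertible at the shifts of the structure sheaf.
-/

set_option autoImplicit false
set_option backward.isDefEq.respectTransparency false
set_option linter.style.haveILetI false

noncomputable section

universe u

open CategoryTheory CategoryTheory.Limits AlgebraicGeometry
attribute [local instance] HasDerivedCategory.standard

namespace Groth.Agent.DPF49

variable {X Y : Scheme.{u}} (f : X ⟶ Y) (I : CochainComplex X.Modules ℤ)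
  [DCoh.HasLpull f] [DCoh.HasLTensorCx I] [DCoh.HasLTensorCx ((pC f).obj I)] [DCoh.HasRpush f]

lemma kffh_unitCx (n : ℤ) :
    DCK91.KFFh Y ((HomotopyCategory.quotient Y.Modules (ComplexShape.up ℤ)).obj (unitCx Y n)) :=
  ⟨unitCx Y n, rfl, (kff_unitCx Y n).1, (kff_unitCx Y n).2⟩

lemma isIso_fromG₁_unit (hI : I.IsKInjective) (n : ℤ) : IsIso ((fromG₁ f I).app (unitCx Y n)) := by
  haveI h : ModSite.HasLTensorCx (O := Y.sheaf) ((pC f).obj I) := (inferInstance : DCoh.HasLTensorCx ((pC f).obj I))
  haveI : IsIso (((DCoh.tensorCxQ ((pC f).obj I)).totalLeftDerivedCounit DerivedCategory.Q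
      (HomologicalComplex.quasiIso Y.Modules (ComplexShape.up ℤ))).app (unitCx Y n)) :=
    DerComp18.isIso_ltCounit (O := Y.sheaf) ((pC f).obj I) (unitCx Y n) (kff_unitCx Y n).1
  haveI := isIso_projLCx_unit f n I
  haveI := isIso_rpushU f _ (isKInjective_pull_unit f n I hI)
  exact IsIso.comp_isIso' inferInstance (IsIso.comp_isIso'
    (inferInstanceAs (IsIso (DerivedCategory.Q.map (projLCx f (unitCx Y n) I)))) inferInstance)

/-- **The projection transformation at `O[-n]`.** -/
theorem isIso_projTrans_unit (hI : I.IsKInjective) (τ : G₁ f I ⟶ G₂ f I)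
    (hτ : ∀ (P : CochainComplex Y.Modules ℤ),
      DCK91.KFFh Y ((HomotopyCategory.quotient Y.Modules (ComplexShape.up ℤ)).obj P) →
        τ.app (DerivedCategory.Q.obj P) ≫ (fromG₂ f I).app P = (fromG₁ f I).app P) (n : ℤ) :
    IsIso (τ.app ((DerivedCategory.singleFunctor Y.Modules n).obj (Coh.structureModule Y))) := by
  haveI := isIso_fromG₁_unit f I hI n
  haveI := isIso_fromG₂ f I (unitCx Y n) (kffh_unitCx n) (kff_unitCx Y n).1
  have e : IsIso (τ.app (DerivedCategory.Q.obj (unitCx Y n))) :=
    IsIso.of_isIso_fac_right (hτ _ (kffh_unitCx n))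
  exact e

end Groth.Agent.DPF49
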