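import Groth.Agent.DPF49.LocalPre
import Groth.Agent.DPF49.TransUnit

/-!
The projection transformation is invertible on objects with quasi-coherent cohomology.
-/

set_option autoImplicit false
set_option backward.isDefEq.respectTransparency.types false
set_option linter.style.haveILetI false
set_option maxHeartbeats 1000000

noncomputable section

universe u

open CategoryTheory CategoryTheory.Limits CategoryTheory.Pretriangulated AlgebraicGeometry
attribute [local instance] HasDerivedCategory.standard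

namespace Groth.Agent.DPF49

variable {U X Y : Scheme.{u}}

/-- A morphism with vanishing restricted cone stays invertible after applying a functor which keeps this vanishing. -/
lemma isIso_map_of_cone {A : Type*} [Category A] [Abelian A] [HasDerivedCategory.{u + 1} A]
    {B : Type*} [Category B] [Abelian B] [HasDerivedCategory.{u + 1} B]
    {C : Type*} [Category C] [Abelian C] [HasDerivedCategory.{u + 1} C]
    (r : DerivedCategory A ⥤ DerivedCategory B) (hr : QExact41.TriLike r)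
    (G : DerivedCategory A ⥤ DerivedCategory C) (hG : QExact41.TriLike G)
    (hz : ∀ Z, IsZero (r.obj Z) → IsZero (G.obj Z))
    {Z W : DerivedCategory A} (d : Z ⟶ W) (hd : IsIso (r.map d)) : IsIso (G.map d) := by
  obtain ⟨T, a, b, hT⟩ := distinguished_cocone_triangle d
  obtain ⟨c, hc⟩ := hr _ hT
  obtain ⟨c', hc'⟩ := hG _ hT
  exact (Triangle.isZero₃_iff_isIso₁ _ hc').1 (hz _ ((Triangle.isZero₃_iff_isIso₁ _ hc).2 hd))

section Setup

variable (f : X ⟶ Y) [QuasiCompact f] [QuasiSeparated f] (I : CochainComplex X.Modules ℤ)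
  [DCoh.HasLpull f] [DCoh.HasLTensorCx I] [DCoh.HasLTensorCx ((pC f).obj I)] [DCoh.HasRpush f]
  {V : Y.Opens} (hV : IsAffineOpen V)

/-- Restriction to `V`. -/
abbrev res (V : Y.Opens) : DCoh.D Y ⥤ DCoh.D (V : Scheme.{u}) := DCX42.resD V.ι

include hV in
lemma isIso_res_of_fromSpec {Z W : DCoh.D Y} (d : Z ⟶ W) (h : IsIso ((DCX42.resD hV.fromSpec).map d)) :
    IsIso ((res V).map d) := by
  let e := DCX42.resDComp hV.isoSpec.hom hV.fromSpec ≪≫ DCX42.resDCongr hV.isoSpec_hom_fromSpec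
  haveI : IsIso ((DCX42.resD hV.isoSpec.hom).map ((DCX42.resD hV.fromSpec).map d)) := inferInstance
  exact (NatIso.isIso_map_iff e d).1 this

include hV in
lemma isQCohD_res_ezD {M : DCoh.D (Spec Γ(Y, V))} (hM : DCoh.IsQCohD M) :
    DCoh.IsQCohD ((res V).obj ((ezD hV.fromSpec).obj M)) := by
  obtain ⟨u⟩ := nonempty_ezD_resD hV.fromSpec
  let e := DCX42.resDComp hV.isoSpec.inv V.ι ≪≫ DCX42.resDCongr hV.isoSpec_inv_ι
  refine DCX42.isQCohD_of_local fun x => ⟨_, hV.isoSpec.inv, inferInstance,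
    ⟨hV.isoSpec.hom x, ?_⟩, DCX42.isQCohD_of_iso ((e.app _ ≪≫ u.app M).symm) hM⟩
  change (hV.isoSpec.hom ≫ hV.isoSpec.inv) x = x
  rw [Iso.hom_inv_id]
  rfl

omit [QuasiCompact f] [QuasiSeparated f] [DCoh.HasLTensorCx I] [DCoh.HasRpush f] in
lemma isZero_res_G₁ (Z : DCoh.D Y) (hZ : IsZero ((res V).obj Z)) : IsZero ((res V).obj ((G₁ f I).obj Z)) := by
  obtain ⟨F, hF, -, h⟩ := exists_resD_LTensor V.ι ((pC f).obj I)
  obtain ⟨e⟩ := h Z
  haveI := PerfFib24.hasLTensorCx F hF
  exact ((QExact41.triLike_LTensorCx F).isZero_obj hZ).of_iso e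

omit [QuasiCompact f] [QuasiSeparated f] [DCoh.HasLTensorCx ((pC f).obj I)] [DCoh.HasRpush f] in
lemma isZero_resU_tensor (Z : DCoh.D Y) (hZ : IsZero ((res V).obj Z)) :
    IsZero ((DCX42.resD (f ⁻¹ᵁ V).ι).obj ((DCoh.LTensorCx I).obj ((DCoh.Lpull f).obj Z))) := by
  obtain ⟨F, hF, -, h⟩ := exists_resD_LTensor (f ⁻¹ᵁ V).ι I
  obtain ⟨e⟩ := h ((DCoh.Lpull f).obj Z)
  haveI := PerfFib24.hasLTensorCx F hF
  haveI := DCK91.hasLpull (f ∣_ V)
  obtain ⟨l⟩ := DCX42.nonempty_Lpull_resD f V.ι (f ⁻¹ᵁ V).ι (f ∣_ V) (morphismRestrict_ι f V)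
  refine ((QExact41.triLike_LTensorCx F).isZero_obj ?_).of_iso e
  exact ((QExact41.triLike_Lpull (f ∣_ V)).isZero_obj hZ).of_iso (l.app Z)

omit [QuasiCompact f] [QuasiSeparated f] [DCoh.HasLTensorCx ((pC f).obj I)] in
lemma isZero_res_G₂ (Z : DCoh.D Y) (hZ : IsZero ((res V).obj Z)) : IsZero ((res V).obj ((G₂ f I).obj Z)) := by
  haveI := DCX42.hasRpush (f ∣_ V)
  obtain ⟨e⟩ := DCX42.nonempty_Rpush_restrict f V
  exact ((QExact41.triLike_Rpush (f ∣_ V)).isZero_obj (isZero_resU_tensor f I Z hZ)).of_iso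
    (e.app ((DCoh.LTensorCx I).obj ((DCoh.Lpull f).obj Z)))

omit [QuasiCompact f] [QuasiSeparated f] in
/-- Two objects with the same restriction to `V` are tested at the same time. -/
lemma isIso_res_app_iff (τ : G₁ f I ⟶ G₂ f I) {Z W : DCoh.D Y} (d : Z ⟶ W) (hd : IsIso ((res V).map d)) :
    IsIso ((res V).map (τ.app Z)) ↔ IsIso ((res V).map (τ.app W)) := by
  have hr : QExact41.TriLike (res V) := triLike_mapDerived _
  haveI : IsIso ((G₁ f I ⋙ res V).map d) := isIso_map_of_cone (res V) hr _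
    ((QExact41.triLike_LTensorCx _).comp hr) (fun Z hZ => isZero_res_G₁ f I Z hZ) d hd
  haveI : IsIso ((G₂ f I ⋙ res V).map d) := isIso_map_of_cone (res V) hr _
    ((((QExact41.triLike_Lpull f).comp (QExact41.triLike_LTensorCx I)).comp (QExact41.triLike_Rpush f)).comp hr)
    (fun Z hZ => isZero_res_G₂ f I Z hZ) d hd
  have n : (G₁ f I ⋙ res V).map d ≫ (res V).map (τ.app W) = (res V).map (τ.app Z) ≫ (G₂ f I ⋙ res V).map d :=
    (Functor.whiskerRight τ (res V)).naturality d
  constructor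
  · intro h
    haveI : IsIso ((G₁ f I ⋙ res V).map d ≫ (res V).map (τ.app W)) := n ▸ inferInstance
    exact IsIso.of_isIso_comp_left ((G₁ f I ⋙ res V).map d) ((res V).map (τ.app W))
  · intro h
    haveI : IsIso ((res V).map (τ.app Z) ≫ (G₂ f I ⋙ res V).map d) := n ▸ inferInstance
    exact IsIso.of_isIso_comp_right ((res V).map (τ.app Z)) ((G₂ f I ⋙ res V).map d)

include hV in
/-- Extensions by zero of objects with quasi-coherent cohomology from `V`. -/
theorem isIso_res_projTrans_ezD (hI : I.IsKInjective) (hIq : DCoh.IsQCohD (DerivedCategory.Q.obj I))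
    (τ : G₁ f I ⟶ G₂ f I)
    (hτ : ∀ (P : CochainComplex Y.Modules ℤ),
      DCK91.KFFh Y ((HomotopyCategory.quotient Y.Modules (ComplexShape.up ℤ)).obj P) →
        τ.app (DerivedCategory.Q.obj P) ≫ (fromG₂ f I).app P = (fromG₁ f I).app P)
    [PreservesFiniteLimits (tilde.functor Γ(Y, V))] (M : Dual.D Γ(Y, V)) :
    IsIso ((res V).map (τ.app ((ezD hV.fromSpec).obj ((tilde.functor Γ(Y, V)).mapDerivedCategory.obj M)))) := by
  let T := (tilde.functor Γ(Y, V)).mapDerivedCategory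
  let Ψ : Dual.D Γ(Y, V) ⥤ DCoh.D Y := T ⋙ ezD hV.fromSpec
  let g := hV.fromSpec
  haveI := DCX42.hasRpush (f ∣_ V)
  have hΨ : QExact41.TriLike Ψ := (triLike_mapDerived _).comp (triLike_mapDerived _)
  have hr : QExact41.TriLike (res V) := triLike_mapDerived _
  have hpΨ : ∀ {J : Type u} (E : J → Dual.D Γ(Y, V)), PreservesColimit (Discrete.functor E) Ψ := fun E =>
    preservesColimit_comp E T _ (preservesColimit_tildeD _ E) (preservesColimit_ezD _ _)
  refine isIso_of_isIso_gen (Φ₁ := Ψ ⋙ G₁ f I ⋙ res V) (Φ₂ := Ψ ⋙ G₂ f I ⋙ res V)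
    (hΨ.comp ((QExact41.triLike_LTensorCx _).comp hr))
    (hΨ.comp ((((QExact41.triLike_Lpull f).comp (QExact41.triLike_LTensorCx I)).comp
      (QExact41.triLike_Rpush f)).comp hr))
    (Functor.whiskerLeft Ψ (Functor.whiskerRight τ (res V))) (fun E => ?_) (fun E => ?_) (fun n => ?_) M
  · exact preservesColimit_comp E Ψ _ (hpΨ E)
      (preservesColimit_comp _ (G₁ f I) _ (preservesColimit_LTensorCx _ _) (preservesColimit_resD _ _))
  · obtain ⟨e⟩ := DCX42.nonempty_Rpush_restrict f V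
    refine preservesColimit_comp E Ψ _ (hpΨ E) ?_
    refine preservesColimit_comp _ (DCoh.Lpull f) (DCoh.LTensorCx I ⋙ DCoh.Rpush f ⋙ res V)
      (preservesColimit_Lpull f _) ?_
    refine preservesColimit_comp _ (DCoh.LTensorCx I) (DCoh.Rpush f ⋙ res V) (preservesColimit_LTensorCx I _) ?_
    haveI := preservesColimit_comp (fun i => (DCoh.LTensorCx I).obj ((DCoh.Lpull f).obj (Ψ.obj (E i))))
      (DCX42.resD (f ⁻¹ᵁ V).ι) (DCoh.Rpush (f ∣_ V)) (preservesColimit_resD _ _)
      (preservesColimit_Rpush (f ∣_ V) _ fun i => by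
        obtain ⟨F, hF, ⟨eF⟩, h⟩ := exists_resD_LTensor (f ⁻¹ᵁ V).ι I
        obtain ⟨k⟩ := h ((DCoh.Lpull f).obj (Ψ.obj (E i)))
        haveI := PerfFib24.hasLTensorCx F hF
        haveI := DCK91.hasLpull (f ∣_ V)
        obtain ⟨l⟩ := DCX42.nonempty_Lpull_resD f V.ι (f ⁻¹ᵁ V).ι (f ∣_ V) (morphismRestrict_ι f V)
        refine DCX42.isQCohD_of_iso k.symm (QCohTens72.isQCohD_LTensorCx F
          (DCX42.isQCohD_of_iso eF.symm (DCX42.isQCohD_resD hIq _)) ?_)
        exact DCX42.isQCohD_of_iso (l.app _).symm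
          (DCX42.isQCohD_Lpull (f ∣_ V) (isQCohD_res_ezD hV (DCX42.isQCohD_tildeD Γ(Y, V) (E i)))))
    exact preservesColimit_of_natIso _ e.symm
  · let S := (DerivedCategory.singleFunctor Y.Modules n).obj (Coh.structureModule Y)
    let eK : T.obj (Gen.K n) ≅ (DCX42.resD g).obj S :=
      ((tilde.functor Γ(Y, V)).mapDerivedCategorySingleFunctor n).app (ModuleCat.of Γ(Y, V) Γ(Y, V)) ≪≫
        (DerivedCategory.singleFunctor (Spec Γ(Y, V)).Modules n).mapIso
          (tildeSelf ≪≫ (Scheme.Modules.restrictUnitIso g).symm) ≪≫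
        (((Scheme.Modules.restrictFunctor g).mapDerivedCategorySingleFunctor n).app (Coh.structureModule Y)).symm
    let d : Ψ.obj (Gen.K n) ⟶ S := (ezD g).map eK.hom ≫ (ezAdj g).counit.app S
    have hd : IsIso ((res V).map d) := by
      refine isIso_res_of_fromSpec hV d ?_
      haveI := isIso_resD_counit g S
      rw [Functor.map_comp]
      infer_instance
    refine (isIso_res_app_iff f I τ d hd).2 ?_
    haveI := isIso_projTrans_unit f I hI τ hτ n
    infer_instance

/-- **The projection transformation is invertible on objects with quasi-coherent cohomology.** -/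
theorem isIso_projTrans (hI : I.IsKInjective) (hIq : DCoh.IsQCohD (DerivedCategory.Q.obj I))
    (τ : G₁ f I ⟶ G₂ f I)
    (hτ : ∀ (P : CochainComplex Y.Modules ℤ),
      DCK91.KFFh Y ((HomotopyCategory.quotient Y.Modules (ComplexShape.up ℤ)).obj P) →
        τ.app (DerivedCategory.Q.obj P) ≫ (fromG₂ f I).app P = (fromG₁ f I).app P)
    {K : DCoh.D Y} (hK : DCoh.IsQCohD K) : IsIso (τ.app K) := by
  rw [DerivedCategory.isIso_iff]
  intro j
  refine Omega57.isIso_of_restrict _ fun y => ?_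
  obtain ⟨V, hV, hy, -⟩ := exists_isAffineOpen_mem_and_subset (x := y) (U := (⊤ : Y.Opens)) trivial
  refine ⟨V, V.ι, inferInstance, ⟨⟨y, hy⟩, rfl⟩, ?_⟩
  haveI : PreservesFiniteLimits (tilde.functor Γ(Y, V)) := (Groth.Agent.S9498.tilde_exact Γ(Y, V)).1
  obtain ⟨M, ⟨eM⟩⟩ := ((DCX42.tildeD_fullyFaithful_essImage Γ(Y, V)).2.2 _).1
    (DCX42.isQCohD_resD hK hV.fromSpec)
  let d : (ezD hV.fromSpec).obj ((tilde.functor Γ(Y, V)).mapDerivedCategory.obj M) ⟶ K :=
    (ezD hV.fromSpec).map eM.hom ≫ (ezAdj hV.fromSpec).counit.app K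
  have hd : IsIso ((res V).map d) := by
    refine isIso_res_of_fromSpec hV d ?_
    haveI := isIso_resD_counit hV.fromSpec K
    rw [Functor.map_comp]
    infer_instance
  have h : IsIso ((res V).map (τ.app K)) :=
    (isIso_res_app_iff f I τ d hd).1 (isIso_res_projTrans_ezD f I hV hI hIq τ hτ M)
  exact (NatIso.isIso_map_iff (Mod48.homologyMapDerivedIso (Scheme.Modules.restrictFunctor V.ι) j) (τ.app K)).1
    (inferInstanceAs (IsIso ((DerivedCategory.homologyFunctor _ j).map ((res V).map (τ.app K)))))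

end Setup

end Groth.Agent.DPF49
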