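import Groth.Agent.DPF49.Proj

/-!
Maps into K-injective models.
-/

set_option autoImplicit false
set_option linter.style.haveILetI false

noncomputable section

universe u

open CategoryTheory CategoryTheory.Limits AlgebraicGeometry
attribute [local instance] HasDerivedCategory.standard

namespace Groth.Agent.DPF49

variable {X Y : Scheme.{u}}

/-- A morphism in the derived category into a K-injective complex comes from a morphism of complexes. -/
theorem exists_map_kinj {T J : CochainComplex X.Modules ℤ}
    (e : DerivedCategory.Q.obj T ≅ DerivedCategory.Q.obj J) (hJ : J.IsKInjective) :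
    ∃ φ : T ⟶ J, DerivedCategory.Q.map φ = e.hom := by
  obtain ⟨ψ, hψ⟩ := (CochainComplex.IsKInjective.Qh_map_bijective
    ((HomotopyCategory.quotient X.Modules (ComplexShape.up ℤ)).obj T) J).2
      (((DerivedCategory.quotientCompQhIso X.Modules).app T).hom ≫ e.hom ≫
        ((DerivedCategory.quotientCompQhIso X.Modules).app J).inv)
  obtain ⟨φ, rfl⟩ := (HomotopyCategory.quotient X.Modules (ComplexShape.up ℤ)).map_surjective ψ
  refine ⟨φ, ?_⟩
  have := (DerivedCategory.quotientCompQhIso X.Modules).hom.naturality φ
  rw [Functor.comp_map, hψ] at this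
  simpa using this.symm

/-- An exact direct image preserves quasi-isomorphisms. -/
theorem isIso_Q_map_push (f : X ⟶ Y) [PreservesFiniteLimits (Scheme.Modules.pushforward f)]
    [PreservesFiniteColimits (Scheme.Modules.pushforward f)] {T J : CochainComplex X.Modules ℤ} (φ : T ⟶ J)
    (h : IsIso (DerivedCategory.Q.map φ)) :
    IsIso (DerivedCategory.Q.map (((Scheme.Modules.pushforward f).mapHomologicalComplex (ComplexShape.up ℤ)).map φ)) := by
  rw [DerivedCategory.isIso_Q_map_iff_quasiIso] at h ⊢
  infer_instance

end Groth.Agent.DPF49
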