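import Groth.Agent.HTor49.Loc
import Groth.Agent.FMK72.Acyclic
import Groth.Agent.QCohPush72.AcyclicUnit
import Groth.Agent.DCX42.PushAdj
import Mathlib.AlgebraicGeometry.Morphisms.Affine

/-!
Direct images of resolutions by acyclic quasi-coherent terms.
-/

set_option autoImplicit false
set_option backward.isDefEq.respectTransparency.types false
set_option linter.style.haveILetI false

noncomputable section

universe u

open CategoryTheory CategoryTheory.Limits AlgebraicGeometry
attribute [local instance] HasDerivedCategory.standard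

namespace Groth.Agent.DPF49

variable {X Y : Scheme.{u}} (f : X ⟶ Y)

/-- No higher direct images for a module with no higher cohomology over preimages of affine opens. -/
theorem isZero_Rpush_of_acyAt [HasInjectiveResolutions X.Modules] (M : X.Modules)
    (h : ∀ V : Y.Opens, IsAffineOpen V → HTor49.AcyAt (f ⁻¹ᵁ V) M) (i : ℕ) (hi : 0 < i) :
    IsZero ((Coh.Rpush f i).obj M) := by
  obtain ⟨k, rfl⟩ : ∃ k, i = k + 1 := ⟨i - 1, by omega⟩
  refine FMK72.isZero_Rpush_of_subsingleton f M _ fun U y hy => ?_
  obtain ⟨V, hV, hyV, hVU⟩ := (TopologicalSpace.Opens.isBasis_iff_nbhd.1 Y.isBasis_affineOpens) hy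
  exact ⟨V, hVU, hyV, h V hV k⟩

/-- Sums of direct images from affine opens have no higher direct images to an affine base. -/
theorem acyAt_preimage_of_cls [X.IsSeparated] [Y.IsSeparated] {M : X.Modules} (hM : HTor49.Cls M) (V : Y.Opens)
    (hV : IsAffineOpen V) : HTor49.AcyAt (f ⁻¹ᵁ V) M :=
  hM.acyAt fun W hW => by
    haveI : IsAffine (W : Scheme.{u}) := hW
    haveI : IsAffineHom (W.ι ≫ f) := MorphismProperty.of_postcomp (W := @IsAffineHom) (W' := @IsSeparated) (W.ι ≫ f)
      (terminal.from Y) Scheme.IsSeparated.isSeparated_terminal_from (inferInstanceAs (IsAffineHom _))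
    have h := hV.preimage (W.ι ≫ f)
    rw [Scheme.Hom.comp_preimage] at h
    have h' := (W.ι.isAffineOpen_iff_of_isOpenImmersion).2 h
    rwa [HTor49.image_preimage] at h'

/-- The direct image of a resolution by acyclic quasi-coherent modules computes the derived direct image. -/
theorem quasiIso_push_of_acyclic [QuasiCompact f] [QuasiSeparated f] [HasInjectiveResolutions X.Modules]
    [DCoh.HasRpush f] {F J : CochainComplex X.Modules ℤ} (η : F ⟶ J) [QuasiIso η] (hJ : J.IsKInjective)
    (hq : ∀ n, Coh.IsQCoh (F.X n))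
    (hac : ∀ (n : ℤ) (V : Y.Opens), IsAffineOpen V → HTor49.AcyAt (f ⁻¹ᵁ V) (F.X n)) :
    QuasiIso (((Scheme.Modules.pushforward f).mapHomologicalComplex (ComplexShape.up ℤ)).map η) := by
  let qX := HomotopyCategory.quotient X.Modules (ComplexShape.up ℤ)
  let α := (DCoh.pushKh f).totalRightDerivedUnit DerivedCategory.Qh (HomotopyCategory.quasiIso X.Modules (ComplexShape.up ℤ))
  haveI h1 : IsIso (α.app (qX.obj F)) := QCohPush72.isIso_unit_acyclic f F hq fun n i hi =>
    isZero_Rpush_of_acyAt f (F.X n) (hac n) i hi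
  haveI h2 : IsIso (α.app (qX.obj J)) := DCX42.isIso_pushUnit f J hJ
  haveI h3 : IsIso (DerivedCategory.Qh.map (qX.map η)) :=
    (NatIso.isIso_map_iff (DerivedCategory.quotientCompQhIso X.Modules) η).2
      ((DerivedCategory.isIso_Q_map_iff_quasiIso _ _).2 inferInstance)
  have hn := α.naturality (qX.map η)
  have h4 : IsIso ((DCoh.pushKh f).map (qX.map η) ≫ α.app (qX.obj J)) := by
    rw [hn, Functor.comp_map]
    infer_instance
  have h5 : IsIso ((DCoh.pushKh f).map (qX.map η)) :=
    IsIso.of_isIso_comp_right _ (α.app (qX.obj J))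
  have h6 : IsIso (DerivedCategory.Qh.map ((HomotopyCategory.quotient Y.Modules (ComplexShape.up ℤ)).map
      (((Scheme.Modules.pushforward f).mapHomologicalComplex (ComplexShape.up ℤ)).map η))) := h5
  exact (DerivedCategory.isIso_Q_map_iff_quasiIso _ _).1
    ((NatIso.isIso_map_iff (DerivedCategory.quotientCompQhIso Y.Modules) _).1 h6)

end Groth.Agent.DPF49
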