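import Groth.Agent.TorStalk41.Pull
import Groth.Agent.DR39.ResTensor
import Groth.Agent.DR39.TensorDual
import Groth.Agent.DR39.TensorSymm
import Groth.Agent.Mod48.KFlat
import Groth.Agent.PerfAmp41.Restrict
import Groth.Agent.DCX42.Der
import Groth.Prelude.Def_HTor

/-!
`C ↦ P ⊗ a^* C` for a bounded above complex `P` flat over the target inverts quasi-isomorphisms, locally.
-/

set_option autoImplicit false
set_option backward.isDefEq.respectTransparency.types false
set_option linter.style.haveILetI false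

noncomputable section

universe u

open CategoryTheory CategoryTheory.Limits AlgebraicGeometry MonoidalCategory
attribute [local instance] HasDerivedCategory.standard

namespace Groth.Agent.DPF49

section Split

variable {A A' B B' : Type*} [Category* A] [Category* A'] [Category* B] [Category* B'] [Abelian A] [Abelian A']
  [Abelian B] [Abelian B']

/-- A functor on complexes inverts the maps inverted by an exact functor `R`, after an exact functor `R'`,
when it does so for objects. -/
theorem quasiIso_map_of_local (G : CochainComplex A ℤ ⥤ CochainComplex B ℤ) [G.Additive]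
    (R : A ⥤ A') [R.Additive] [R.PreservesHomology] (R' : B ⥤ B') [R'.Additive] [R'.PreservesHomology]
    (hG : Mod48.PreservesHtp G)
    (hsplit : ∀ S : ShortComplex (CochainComplex A ℤ), S.ShortExact →
      (∀ n, Nonempty (S.map (HomologicalComplex.eval A (ComplexShape.up ℤ) n)).Splitting) → (S.map G).ShortExact)
    (hloc : ∀ C : CochainComplex A ℤ, ((R.mapHomologicalComplex (ComplexShape.up ℤ)).obj C).Acyclic →
      ((R'.mapHomologicalComplex (ComplexShape.up ℤ)).obj (G.obj C)).Acyclic)
    {F F' : CochainComplex A ℤ} (φ : F ⟶ F') (h : QuasiIso ((R.mapHomologicalComplex (ComplexShape.up ℤ)).map φ)) :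
    QuasiIso ((R'.mapHomologicalComplex (ComplexShape.up ℤ)).map (G.map φ)) := by
  let Rc := R.mapHomologicalComplex (ComplexShape.up ℤ)
  let Rc' := R'.mapHomologicalComplex (ComplexShape.up ℤ)
  let P := CochainComplex.mappingCone (𝟙 F)
  let i : F ⟶ F' ⊞ P := biprod.lift φ (CochainComplex.mappingCone.inr (𝟙 F))
  let e : HomotopyEquiv (F' ⊞ P) F' :=
    { hom := biprod.fst
      inv := biprod.inl
      homotopyHomInvId :=
        let h₁ := ((CochainComplex.mappingCone.homotopyToZeroOfId F).compRight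
          (biprod.inr : P ⟶ F' ⊞ P)).compLeft (biprod.snd : F' ⊞ P ⟶ P)
        let h₂ := Homotopy.add (Homotopy.refl (biprod.fst ≫ biprod.inl : F' ⊞ P ⟶ F' ⊞ P)) h₁
        (Homotopy.ofEq (by simp)).trans (h₂.symm.trans (Homotopy.ofEq (by simp [P])))
      homotopyInvHomId := Homotopy.ofEq (by simp) }
  have hfac : i ≫ biprod.fst = φ := biprod.lift_fst _ _
  haveI : QuasiIso (Rc.map (biprod.fst : F' ⊞ P ⟶ F')) :=
    (R.mapHomotopyEquiv e).quasiIso_hom
  haveI : QuasiIso (Rc.map i) := by
    haveI : QuasiIso (Rc.map i ≫ Rc.map (biprod.fst : F' ⊞ P ⟶ F')) := by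
      rw [← Functor.map_comp, hfac]; exact h
    exact quasiIso_of_comp_right (Rc.map i) (Rc.map (biprod.fst : F' ⊞ P ⟶ F'))
  have hr : ∀ n, i.f n ≫ (biprod.snd : F' ⊞ P ⟶ P).f n ≫
      (CochainComplex.mappingCone.snd (𝟙 F)).v n n (add_zero n) = 𝟙 (F.X n) := fun n => by
    rw [← HomologicalComplex.comp_f_assoc, biprod.lift_snd, CochainComplex.mappingCone.inr_f_snd_v]
  have : ∀ n, IsSplitMono (i.f n) := fun n => IsSplitMono.mk' ⟨_, hr n⟩
  have : Mono i := HomologicalComplex.mono_of_mono_f i inferInstance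
  let S : ShortComplex (CochainComplex A ℤ) := ShortComplex.mk i (cokernel.π i) (cokernel.condition i)
  have hS : S.ShortExact := { exact := ShortComplex.exact_of_g_is_cokernel _ (cokernelIsCokernel i) }
  have hσ : ∀ n, Nonempty (S.map (HomologicalComplex.eval A (ComplexShape.up ℤ) n)).Splitting := fun n =>
    have hSn := hS.map_of_exact (HomologicalComplex.eval A (ComplexShape.up ℤ) n)
    have := hSn.epi_g
    ⟨ShortComplex.Splitting.ofExactOfRetraction _ hSn.exact _ (hr n) hSn.epi_g⟩
  have hRS : (S.map Rc).ShortExact :=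
    HomologicalComplex.shortExact_of_degreewise_shortExact _ fun n =>
      ((hσ n).some.map R).shortExact
  have hX₃ : (Rc.obj S.X₃).Acyclic := Mod48.acyclic_X₃_of_quasiIso hRS ‹_›
  have hGS := hsplit S hS hσ
  haveI := R'.preservesFiniteLimits_of_preservesHomology
  haveI := R'.preservesFiniteColimits_of_preservesHomology
  have hR'GS : ((S.map G).map Rc').ShortExact :=
    HomologicalComplex.shortExact_of_degreewise_shortExact _ fun n =>
      ShortComplex.ShortExact.map_of_exact (hGS.map_of_exact (HomologicalComplex.eval B (ComplexShape.up ℤ) n)) R'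
  haveI h1 : QuasiIso (Rc'.map (G.map i)) := Mod48.quasiIso_of_acyclic_X₃ hR'GS (hloc _ hX₃)
  obtain ⟨H₁⟩ := hG _ _ e.homotopyHomInvId
  obtain ⟨H₂⟩ := hG _ _ e.homotopyInvHomId
  let Ge : HomotopyEquiv (G.obj (F' ⊞ P)) (G.obj F') :=
    { hom := G.map biprod.fst
      inv := G.map biprod.inl
      homotopyHomInvId := (Homotopy.ofEq (G.map_comp _ _).symm).trans (H₁.trans (Homotopy.ofEq (G.map_id _)))
      homotopyInvHomId := (Homotopy.ofEq (G.map_comp _ _).symm).trans (H₂.trans (Homotopy.ofEq (G.map_id _))) }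
  haveI : QuasiIso (Rc'.map (G.map (biprod.fst : F' ⊞ P ⟶ F'))) := (R'.mapHomotopyEquiv Ge).quasiIso_hom
  rw [← hfac, G.map_comp, Functor.map_comp]
  infer_instance

end Split

variable {Z T : Scheme.{u}}

/-- Restriction to an open kills a module exactly when its stalks there vanish. -/
theorem isZero_restrict_iff_stalks (M : T.Modules) (O : T.Opens) :
    IsZero ((Scheme.Modules.restrictFunctor O.ι).obj M) ↔ ∀ x ∈ O, IsZero ((DCK91.SP x).obj M) := by
  refine ⟨fun h x hx => ?_, fun h => DCK91.isZero_of_stalks fun u => ?_⟩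
  · haveI := PerfAmp41.subsingleton_stalk_of_isZero_restrict O.ι M ⟨x, hx⟩ h
    exact @ModuleCat.isZero_of_subsingleton _ _ _ (inferInstanceAs (Subsingleton (M.presheaf.stalk (O.ι ⟨x, hx⟩))))
  · haveI : Subsingleton (M.presheaf.stalk (O.ι u)) :=
      ModuleCat.subsingleton_of_isZero (h (O.ι u) u.2)
    have h' : Subsingleton ((M.restrict O.ι).presheaf.stalk u) :=
      (FBase64.AssSheaf.restrictStalkEquiv O.ι M u).toEquiv.symm.subsingleton
    exact @ModuleCat.isZero_of_subsingleton _ _ _ h'

/-- Acyclicity on an open, by stalks. -/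
theorem acyclic_restrict_iff (C : CochainComplex T.Modules ℤ) (O : T.Opens) :
    ((DCX42.resCx O.ι).obj C).Acyclic ↔ ∀ x ∈ O, ∀ i, IsZero (((DCK91.SPc x).obj C).homology i) := by
  refine ⟨fun h x hx i => ?_, fun h => Mod48.acyclic_of_isZero_homology fun i => ?_⟩
  · have h1 : IsZero ((Scheme.Modules.restrictFunctor O.ι).obj (C.homology i)) :=
      (Mod48.isZero_homology_of_acyclic h i).of_iso ((C.sc i).mapHomologyIso (Scheme.Modules.restrictFunctor O.ι)).symm
    exact ((isZero_restrict_iff_stalks _ O).1 h1 x hx).of_iso ((C.sc i).mapHomologyIso (DCK91.SP x))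
  · refine IsZero.of_iso ((isZero_restrict_iff_stalks (C.homology i) O).2 fun x hx => ?_)
      ((C.sc i).mapHomologyIso (Scheme.Modules.restrictFunctor O.ι))
    exact (h x hx i).of_iso ((C.sc i).mapHomologyIso (DCK91.SP x)).symm

variable (a : Z ⟶ T) (P : CochainComplex Z.Modules ℤ)

/-- `C ↦ P ⊗ a^*C`. -/
abbrev tensPullCx : CochainComplex T.Modules ℤ ⥤ CochainComplex Z.Modules ℤ :=
  HTor.pullCx a ⋙ DCoh.tensorCx.obj P

instance additive_tensPullCx : (tensPullCx a P).Additive :=
  haveI : ((DCoh.tensorCx (X := Z)).obj P).Additive := Mod48.additive_tensorCx_obj (O := Z.sheaf) P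
  inferInstance

variable {a P}

/-- The stalk of `P ⊗ a^*C` is acyclic where the one of `C` is. -/
theorem acyclic_stalk_tensPull (hP : ∀ i, FlatMod.IsFlatOver a (P.X i)) {b : ℤ}
    (hb : ∀ i, b < i → IsZero (P.X i)) (C : CochainComplex T.Modules ℤ) (z : Z)
    (h : ∀ i, IsZero (((DCK91.SPc (a z)).obj C).homology i)) (i : ℤ) :
    IsZero (((DCK91.SPc z).obj ((tensPullCx a P).obj C)).homology i) := by
  let φ : T.presheaf.stalk (a z) →+* Z.presheaf.stalk z := (a.stalkMap z).hom
  let Pz := (DCK91.SPc z).obj P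
  let Cz := (DCK91.SPc (a z)).obj C
  have hk : DRing.IsKFlat _ (DR39.resCx φ Pz) :=
    DR39.isKFlat_of_flat b
      (fun j hj => (ModuleCat.restrictScalars φ).map_isZero ((DCK91.SP z).map_isZero (hb j hj)))
      fun j => hP j z
  have h1 : IsZero ((DR39.resCx φ Pz ⊗ Cz).homology i) :=
    (hk Cz h i).of_iso ((HomologicalComplex.homologyFunctor _ _ i).mapIso (asIso (DR39.symm' _ _)))
  obtain ⟨e⟩ := DCK91.stalkTotIso z P ((HTor.pullCx a).obj C)
  exact ((DR39.isZero_res_tensor_iff φ Pz Cz i).1 h1).of_iso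
    ((HomologicalComplex.homologyFunctor _ _ i).mapIso
      (e.symm ≪≫ MonoidalCategory.tensorIso (Iso.refl Pz) (TorStalk41.stalkPullCxIso a z C).symm))

/-- `P ⊗ a^*-` inverts maps which are quasi-isomorphisms on an open, above this open. -/
theorem quasiIso_tensPull_local (hP : ∀ i, FlatMod.IsFlatOver a (P.X i)) {b : ℤ}
    (hb : ∀ i, b < i → IsZero (P.X i)) {O : T.Opens} {O' : Z.Opens} (hO : O' ≤ a ⁻¹ᵁ O)
    {F F' : CochainComplex T.Modules ℤ} (φ : F ⟶ F') (h : QuasiIso ((DCX42.resCx O.ι).map φ)) :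
    QuasiIso ((DCX42.resCx O'.ι).map ((tensPullCx a P).map φ)) := by
  refine quasiIso_map_of_local (tensPullCx a P) (Scheme.Modules.restrictFunctor O.ι)
    (Scheme.Modules.restrictFunctor O'.ι) ?_ ?_ (fun C hC => ?_) φ h
  · intro K L f g H
    exact Mod48.preservesHtp_tensorCx_obj (O := Z.sheaf) P _ _ ((Scheme.Modules.pullback a).mapHomotopy H)
  · intro S _ hσ
    let S' : ShortComplex (CochainComplex Z.Modules ℤ) :=
      S.map ((Scheme.Modules.pullback a).mapHomologicalComplex (ComplexShape.up ℤ))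
    exact Mod48.shortExact_tensorCx_obj_of_split (O := Z.sheaf) P S'
      fun n => ⟨(hσ n).some.map (Scheme.Modules.pullback a)⟩
  · exact (acyclic_restrict_iff _ O').2 fun z hz i =>
      acyclic_stalk_tensPull hP hb C z ((acyclic_restrict_iff C O).1 hC (a z) (hO hz)) i

/-- `P ⊗ a^*-` inverts quasi-isomorphisms. -/
theorem quasiIso_tensPull (hP : ∀ i, FlatMod.IsFlatOver a (P.X i)) {b : ℤ}
    (hb : ∀ i, b < i → IsZero (P.X i)) {F F' : CochainComplex T.Modules ℤ} (φ : F ⟶ F') [QuasiIso φ] :
    QuasiIso ((tensPullCx a P).map φ) := by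
  have h : QuasiIso (((𝟭 Z.Modules).mapHomologicalComplex (ComplexShape.up ℤ)).map ((tensPullCx a P).map φ)) := by
    refine quasiIso_map_of_local (tensPullCx a P) (𝟭 T.Modules) (𝟭 Z.Modules) ?_ ?_ (fun C hC => ?_) φ inferInstance
    · intro K L f g H
      exact Mod48.preservesHtp_tensorCx_obj (O := Z.sheaf) P _ _ ((Scheme.Modules.pullback a).mapHomotopy H)
    · intro S _ hσ
      let S' : ShortComplex (CochainComplex Z.Modules ℤ) :=
        S.map ((Scheme.Modules.pullback a).mapHomologicalComplex (ComplexShape.up ℤ))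
      exact Mod48.shortExact_tensorCx_obj_of_split (O := Z.sheaf) P S'
        fun n => ⟨(hσ n).some.map (Scheme.Modules.pullback a)⟩
    · have hC' : C.Acyclic := hC
      have : ((tensPullCx a P).obj C).Acyclic := Mod48.acyclic_of_isZero_homology fun i =>
        DCK91.isZero_of_stalks fun z =>
          (acyclic_stalk_tensPull hP hb C z (fun j => DCK91.isZero_homology_map (DCK91.SP (a z)) C j
            (Mod48.isZero_homology_of_acyclic hC' j)) i).of_iso
            ((((tensPullCx a P).obj C).sc i).mapHomologyIso (DCK91.SP z)).symm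
      exact this
  exact h

end Groth.Agent.DPF49
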