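import Groth.Agent.DCK91.LeftDer
import Mathlib.Algebra.Homology.DerivedCategory.Basic
import Mathlib.Algebra.Homology.DerivedCategory.Fractions

/-!
Transformations of functors on a derived category, from comparisons on adapted complexes.
-/

set_option autoImplicit false

noncomputable section

universe w v₁ u₁ v₂ u₂

open CategoryTheory

namespace Groth.Agent.DPF49

variable {A : Type u₁} [Category.{v₁} A] [Abelian A] [HasDerivedCategory.{w} A] {H : Type u₂} [Category.{v₂} H]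

lemma lift_square {D : Type*} [Category D] (G₁ G₂ : D ⥤ H) {lx ly qx qy : D} (ex : lx ≅ qx) (ey : ly ≅ qy)
    (m : qx ⟶ qy) {tx ty : H} (ax : G₁.obj qx ⟶ tx) (bx : G₂.obj qx ⟶ tx) (ay : G₁.obj qy ⟶ ty)
    (b₂ : G₂.obj qy ⟶ ty) [IsIso bx] [IsIso b₂] (n : tx ⟶ ty) (h1 : G₁.map m ≫ ay = ax ≫ n)
    (h2 : G₂.map m ≫ b₂ = bx ≫ n) :
    G₁.map (ex.hom ≫ m ≫ ey.inv) ≫ G₁.map ey.hom ≫ ay ≫ inv b₂ ≫ G₂.map ey.inv =
      (G₁.map ex.hom ≫ ax ≫ inv bx ≫ G₂.map ex.inv) ≫ G₂.map (ex.hom ≫ m ≫ ey.inv) := by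
  have h2' : n ≫ inv b₂ = inv bx ≫ G₂.map m := by
    rw [IsIso.eq_inv_comp, ← Category.assoc, IsIso.comp_inv_eq]
    exact h2.symm
  simp [reassoc_of% h1, reassoc_of% h2']

/-- Two functors compared with a third one on complexes, the second comparison being invertible on adapted
complexes, give a transformation. -/
theorem exists_lift (P : ObjectProperty (HomotopyCategory A (ComplexShape.up ℤ)))
    (hP : DCK91.HasRes (HomotopyCategory.quasiIso A (ComplexShape.up ℤ)) P)
    (G₁ G₂ : DerivedCategory A ⥤ H) (T : CochainComplex A ℤ ⥤ H)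
    (a : DerivedCategory.Q ⋙ G₁ ⟶ T) (b : DerivedCategory.Q ⋙ G₂ ⟶ T)
    (hb : ∀ E : CochainComplex A ℤ, P ((HomotopyCategory.quotient A (ComplexShape.up ℤ)).obj E) → IsIso (b.app E)) :
    ∃ τ : G₁ ⟶ G₂, ∀ E : CochainComplex A ℤ, P ((HomotopyCategory.quotient A (ComplexShape.up ℤ)).obj E) →
      τ.app (DerivedCategory.Q.obj E) ≫ b.app E = a.app E := by
  let W := HomotopyCategory.quasiIso A (ComplexShape.up ℤ)
  let L := P.ι ⋙ DerivedCategory.Qh
  haveI := DCK91.isLocalization_ι_comp (DerivedCategory.Qh (C := A)) (W := W) hP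
  let e := DerivedCategory.quotientCompQhIso A
  let rep : P.FullSubcategory → CochainComplex A ℤ := fun x => CategoryTheory.Quotient.as x.obj
  have hrep : ∀ x : P.FullSubcategory, (HomotopyCategory.quotient A (ComplexShape.up ℤ)).obj (rep x) = x.obj :=
    fun x => rfl
  have hi : ∀ x : P.FullSubcategory, IsIso (b.app (rep x)) := fun x => hb _ x.property
  let t : L ⋙ G₁ ⟶ L ⋙ G₂ :=
    { app := fun x => G₁.map (e.hom.app (rep x)) ≫ a.app (rep x) ≫ (@inv _ _ _ _ _ (hi x)) ≫
        G₂.map (e.inv.app (rep x))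
      naturality := fun x y φ => by
        haveI := hi x
        haveI := hi y
        obtain ⟨ψ, hψ⟩ := (HomotopyCategory.quotient A (ComplexShape.up ℤ)).map_surjective
          (X := rep x) (Y := rep y) φ.hom
        have hL : L.map φ = e.hom.app (rep x) ≫ DerivedCategory.Q.map ψ ≫ e.inv.app (rep y) := by
          change DerivedCategory.Qh.map φ.hom = _
          rw [← hψ]
          exact (NatIso.naturality_2 e ψ).symm
        have n1 : G₁.map (DerivedCategory.Q.map ψ) ≫ a.app (rep y) = a.app (rep x) ≫ T.map ψ := a.naturality ψ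
        have n2 : G₂.map (DerivedCategory.Q.map ψ) ≫ b.app (rep y) = b.app (rep x) ≫ T.map ψ := b.naturality ψ
        have n2' : T.map ψ ≫ inv (b.app (rep y)) = inv (b.app (rep x)) ≫ G₂.map (DerivedCategory.Q.map ψ) := by
          rw [IsIso.eq_inv_comp, ← Category.assoc, IsIso.comp_inv_eq]
          exact n2.symm
        change G₁.map (L.map φ) ≫ _ = _ ≫ G₂.map (L.map φ)
        rw [hL]
        exact lift_square G₁ G₂ (e.app (rep x)) (e.app (rep y)) (DerivedCategory.Q.map ψ) (a.app (rep x))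
          (b.app (rep x)) (a.app (rep y)) (b.app (rep y)) (T.map ψ) n1 n2 }
  letI : Localization.Lifting L (DCK91.W₀ W P) (L ⋙ G₁) G₁ := ⟨Iso.refl _⟩
  letI : Localization.Lifting L (DCK91.W₀ W P) (L ⋙ G₂) G₂ := ⟨Iso.refl _⟩
  let τ := Localization.liftNatTrans L (DCK91.W₀ W P) (L ⋙ G₁) (L ⋙ G₂) G₁ G₂ t
  refine ⟨τ, fun E hE => ?_⟩
  let x : P.FullSubcategory := ⟨(HomotopyCategory.quotient A (ComplexShape.up ℤ)).obj E, hE⟩
  haveI : IsIso (b.app E) := hb E hE
  have hτ : τ.app (L.obj x) = t.app x :=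
    (Localization.liftNatTrans_app L (DCK91.W₀ W P) _ _ G₁ G₂ t x).trans
      ((Category.id_comp _).trans (Category.comp_id _))
  have nτ : G₁.map (e.hom.app E) ≫ τ.app (DerivedCategory.Q.obj E) = τ.app (L.obj x) ≫ G₂.map (e.hom.app E) :=
    τ.naturality (e.hom.app E)
  rw [← cancel_epi (G₁.map (e.hom.app E)), ← Category.assoc, nτ, hτ]
  change ((G₁.map (e.hom.app E) ≫ a.app E ≫ inv (b.app E) ≫ G₂.map (e.inv.app E)) ≫
    G₂.map (e.hom.app E)) ≫ b.app E = _
  simp only [Category.assoc]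
  rw [← G₂.map_comp_assoc, Iso.inv_hom_id_app, CategoryTheory.Functor.map_id, Category.id_comp,
    IsIso.inv_hom_id, Category.comp_id]

end Groth.Agent.DPF49
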