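import Groth.Agent.DPF49.ProjL
import Groth.Agent.DPF49.Lift
import Groth.Agent.DCX42.PushAdj
import Groth.Agent.TorStalk41.Pull

/-!
The projection transformation `Rf_*I ⊗^L K ⟶ Rf_* (I ⊗^L Lf^* K)`, natural in `K`.
-/

set_option autoImplicit false
set_option backward.isDefEq.respectTransparency false
set_option linter.style.haveILetI false

noncomputable section

universe u

open CategoryTheory CategoryTheory.Limits AlgebraicGeometry
attribute [local instance] HasDerivedCategory.standard

namespace Groth.Agent.DPF49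

variable {X Y : Scheme.{u}} (f : X ⟶ Y)

/-- Termwise direct image. -/
abbrev pC : CochainComplex X.Modules ℤ ⥤ CochainComplex Y.Modules ℤ :=
  (Scheme.Modules.pushforward f).mapHomologicalComplex (ComplexShape.up ℤ)

/-- Termwise inverse image. -/
abbrev qC : CochainComplex Y.Modules ℤ ⥤ CochainComplex X.Modules ℤ :=
  (Scheme.Modules.pullback f).mapHomologicalComplex (ComplexShape.up ℤ)

/-- The unit of `Rf_*` on complexes. -/
def rpushU [DCoh.HasRpush f] : pC f ⋙ DerivedCategory.Q ⟶ DerivedCategory.Q ⋙ DCoh.Rpush f where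
  app T := (DerivedCategory.quotientCompQhIso Y.Modules).inv.app ((pC f).obj T) ≫
    DerivedCategory.Qh.map (((Scheme.Modules.pushforward f).mapHomotopyCategoryFactors (ComplexShape.up ℤ)).inv.app T) ≫
    ((DCoh.pushKh f).totalRightDerivedUnit DerivedCategory.Qh
      (HomotopyCategory.quasiIso X.Modules (ComplexShape.up ℤ))).app
        ((HomotopyCategory.quotient X.Modules (ComplexShape.up ℤ)).obj T) ≫
    (DCoh.Rpush f).map ((DerivedCategory.quotientCompQhIso X.Modules).hom.app T)
  naturality T T' φ := by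
    have h1 := (DerivedCategory.quotientCompQhIso Y.Modules).inv.naturality ((pC f).map φ)
    have h2 := congrArg DerivedCategory.Qh.map
      (((Scheme.Modules.pushforward f).mapHomotopyCategoryFactors (ComplexShape.up ℤ)).inv.naturality φ)
    have h3 := ((DCoh.pushKh f).totalRightDerivedUnit DerivedCategory.Qh
      (HomotopyCategory.quasiIso X.Modules (ComplexShape.up ℤ))).naturality
        ((HomotopyCategory.quotient X.Modules (ComplexShape.up ℤ)).map φ)
    have h4 := congrArg (DCoh.Rpush f).map ((DerivedCategory.quotientCompQhIso X.Modules).hom.naturality φ)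
    simp only [Functor.comp_map, Functor.map_comp] at h1 h2 h3 h4 ⊢
    rw [reassoc_of% h1, reassoc_of% h2, reassoc_of% h3, h4]
    simp only [Category.assoc]

lemma isIso_rpushU [DCoh.HasRpush f] (T : CochainComplex X.Modules ℤ) (hT : T.IsKInjective) :
    IsIso ((rpushU f).app T) := by
  haveI := DCX42.isIso_pushUnit f T hT
  dsimp only [rpushU]
  infer_instance

/-- The counit of `Lf^*` on complexes. -/
def lpullU [DCoh.HasLpull f] : DerivedCategory.Q ⋙ DCoh.Lpull f ⟶ qC f ⋙ DerivedCategory.Q where
  app E := (DCoh.Lpull f).map ((DerivedCategory.quotientCompQhIso Y.Modules).inv.app E) ≫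
    ((DCoh.pullKh f).totalLeftDerivedCounit DerivedCategory.Qh
      (HomotopyCategory.quasiIso Y.Modules (ComplexShape.up ℤ))).app
        ((HomotopyCategory.quotient Y.Modules (ComplexShape.up ℤ)).obj E) ≫
    DerivedCategory.Qh.map (((Scheme.Modules.pullback f).mapHomotopyCategoryFactors (ComplexShape.up ℤ)).hom.app E) ≫
    (DerivedCategory.quotientCompQhIso X.Modules).hom.app ((qC f).obj E)
  naturality E E' φ := by
    have h1 := congrArg (DCoh.Lpull f).map ((DerivedCategory.quotientCompQhIso Y.Modules).inv.naturality φ)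
    have h2 := ((DCoh.pullKh f).totalLeftDerivedCounit DerivedCategory.Qh
      (HomotopyCategory.quasiIso Y.Modules (ComplexShape.up ℤ))).naturality
        ((HomotopyCategory.quotient Y.Modules (ComplexShape.up ℤ)).map φ)
    have h3 := congrArg DerivedCategory.Qh.map
      (((Scheme.Modules.pullback f).mapHomotopyCategoryFactors (ComplexShape.up ℤ)).hom.naturality φ)
    have h4 := (DerivedCategory.quotientCompQhIso X.Modules).hom.naturality ((qC f).map φ)
    simp only [Functor.comp_map, Functor.map_comp] at h1 h2 h3 h4 ⊢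
    rw [reassoc_of% h1, reassoc_of% h2, reassoc_of% h3, h4]
    simp only [Category.assoc]

lemma isIso_lpullU [DCoh.HasLpull f] (E : CochainComplex Y.Modules ℤ)
    (hE : DCK91.KFFh Y ((HomotopyCategory.quotient Y.Modules (ComplexShape.up ℤ)).obj E)) :
    IsIso ((lpullU f).app E) := by
  haveI := DCK91.isIso_pullCounit f _ hE
  dsimp only [lpullU]
  infer_instance

variable (I : CochainComplex X.Modules ℤ)

/-- `K ↦ K ⊗^L Rf_*` of the complex, on the base. -/
abbrev G₁ [DCoh.HasLTensorCx ((pC f).obj I)] : DCoh.D Y ⥤ DCoh.D Y := DCoh.LTensorCx ((pC f).obj I)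

/-- `K ↦ Rf_*(Lf^* K ⊗^L I)`. -/
abbrev G₂ [DCoh.HasLpull f] [DCoh.HasLTensorCx I] [DCoh.HasRpush f] : DCoh.D Y ⥤ DCoh.D Y :=
  DCoh.Lpull f ⋙ DCoh.LTensorCx I ⋙ DCoh.Rpush f

/-- The target of the comparison on complexes. -/
abbrev Tgt [DCoh.HasRpush f] : CochainComplex Y.Modules ℤ ⥤ DCoh.D Y :=
  qC f ⋙ DCoh.tensorCxQ I ⋙ DCoh.Rpush f

/-- The comparison on complexes, from the derived tensor product. -/
def fromG₁ [DCoh.HasLTensorCx ((pC f).obj I)] [DCoh.HasRpush f] :
    DerivedCategory.Q ⋙ G₁ f I ⟶ Tgt f I where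
  app P := ((DCoh.tensorCxQ ((pC f).obj I)).totalLeftDerivedCounit DerivedCategory.Q
      (HomologicalComplex.quasiIso Y.Modules (ComplexShape.up ℤ))).app P ≫
    DerivedCategory.Q.map (projLCx f P I) ≫ (rpushU f).app ((DCoh.tensorCx.obj ((qC f).obj P)).obj I)
  naturality P P' φ := by
    have h1 := ((DCoh.tensorCxQ ((pC f).obj I)).totalLeftDerivedCounit DerivedCategory.Q
      (HomologicalComplex.quasiIso Y.Modules (ComplexShape.up ℤ))).naturality φ
    have h2 : DerivedCategory.Q.map (((DCoh.tensorCx (X := Y)).map φ).app ((pC f).obj I)) ≫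
        DerivedCategory.Q.map (projLCx f P' I) =
        DerivedCategory.Q.map (projLCx f P I) ≫ DerivedCategory.Q.map ((pC f).map
          ((DCoh.tensorCx.map ((qC f).map φ)).app I)) := by
      rw [← Functor.map_comp, ← Functor.map_comp]
      exact congrArg DerivedCategory.Q.map (projLCx_naturality f φ I)
    have h3 := (rpushU f).naturality ((DCoh.tensorCx.map ((qC f).map φ)).app I)
    refine (Category.assoc _ _ _).symm.trans ((congrArg (· ≫ _) h1).trans ((Category.assoc _ _ _).trans ?_))
    refine Eq.trans ?_ (Category.assoc _ _ _).symm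
    refine congrArg (_ ≫ ·) ?_
    refine ((Category.assoc _ _ _).symm.trans (congrArg (· ≫ _) h2)).trans ((Category.assoc _ _ _).trans ?_)
    refine Eq.trans ?_ (Category.assoc _ _ _).symm
    exact congrArg (_ ≫ ·) h3

/-- The comparison on complexes, from the derived inverse image. -/
def fromG₂ [DCoh.HasLpull f] [DCoh.HasLTensorCx I] [DCoh.HasRpush f] :
    DerivedCategory.Q ⋙ G₂ f I ⟶ Tgt f I where
  app P := (DCoh.Rpush f).map ((DCoh.LTensorCx I).map ((lpullU f).app P) ≫
    ((DCoh.tensorCxQ I).totalLeftDerivedCounit DerivedCategory.Q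
      (HomologicalComplex.quasiIso X.Modules (ComplexShape.up ℤ))).app ((qC f).obj P))
  naturality P P' φ := by
    have h1 := congrArg (DCoh.LTensorCx I).map ((lpullU f).naturality φ)
    have h2 := ((DCoh.tensorCxQ I).totalLeftDerivedCounit DerivedCategory.Q
      (HomologicalComplex.quasiIso X.Modules (ComplexShape.up ℤ))).naturality ((qC f).map φ)
    simp only [Functor.comp_map, Functor.map_comp] at h1 h2 ⊢
    rw [← Functor.map_comp_assoc, h1, Functor.map_comp_assoc, ← Functor.map_comp (DCoh.Rpush f)]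
    rw [h2, Functor.map_comp]
    simp only [Category.assoc]

lemma isIso_fromG₂ [DCoh.HasLpull f] [DCoh.HasLTensorCx I] [DCoh.HasRpush f] (P : CochainComplex Y.Modules ℤ)
    (hP : DCK91.KFFh Y ((HomotopyCategory.quotient Y.Modules (ComplexShape.up ℤ)).obj P))
    (hP' : DCoh.IsKFlat P) : IsIso ((fromG₂ f I).app P) := by
  haveI := isIso_lpullU f P hP
  haveI h : ModSite.HasLTensorCx (O := X.sheaf) I := (inferInstance : DCoh.HasLTensorCx I)
  haveI : IsIso (((DCoh.tensorCxQ I).totalLeftDerivedCounit DerivedCategory.Q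
      (HomologicalComplex.quasiIso X.Modules (ComplexShape.up ℤ))).app ((qC f).obj P)) :=
    DerComp18.isIso_ltCounit (O := X.sheaf) I ((qC f).obj P) (DCK91.isKFlat_pullback f P hP')
  dsimp only [fromG₂]
  infer_instance

lemma isKFlat_of_KFFh (P : CochainComplex Y.Modules ℤ)
    (hP : DCK91.KFFh Y ((HomotopyCategory.quotient Y.Modules (ComplexShape.up ℤ)).obj P)) : DCoh.IsKFlat P := by
  obtain ⟨E, hE, h1, -⟩ := hP
  obtain rfl : P = E := congrArg CategoryTheory.Quotient.as hE
  exact h1

variable [DCoh.HasLpull f] [DCoh.HasLTensorCx I] [DCoh.HasLTensorCx ((pC f).obj I)] [DCoh.HasRpush f]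

/-- The projection transformation exists and is the composite of the comparisons on adapted complexes. -/
theorem exists_projTrans : ∃ τ : G₁ f I ⟶ G₂ f I, ∀ (P : CochainComplex Y.Modules ℤ),
    DCK91.KFFh Y ((HomotopyCategory.quotient Y.Modules (ComplexShape.up ℤ)).obj P) →
      τ.app (DerivedCategory.Q.obj P) ≫ (fromG₂ f I).app P = (fromG₁ f I).app P :=
  exists_lift (DCK91.KFFh Y) (DCK91.hasRes_KFFh Y) (G₁ f I) (G₂ f I) (Tgt f I) (fromG₁ f I) (fromG₂ f I)
    fun P hP => isIso_fromG₂ f I P hP (isKFlat_of_KFFh P hP)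

end Groth.Agent.DPF49
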