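import Groth.Agent.DPF49.KunnethTerm
import Groth.Agent.DPF49.TensQis
import Groth.Agent.DPF49.PushAcyclic
import Groth.Agent.DPF49.Trans
import Groth.Agent.DPF49.Kinj
import Groth.Agent.HTor49.BoxTot
import Groth.Agent.RB70.ModPowTensor
import Groth.Agent.DCX42.KInjPush
import Groth.Agent.DCX42.Der
import Groth.Agent.PerfFib24.RelFlatBC

/-!
The comparison `Q(P ⊗ f₁^* f₂_* N) ⟶ Rp_*(p^* P ⊗ q^* N)` is invertible over affine opens.
-/

set_option autoImplicit false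
set_option backward.isDefEq.respectTransparency false
set_option backward.isDefEq.respectTransparency.types false
set_option synthInstance.maxHeartbeats 200000
set_option maxSynthPendingDepth 6
set_option linter.style.haveILetI false
set_option maxHeartbeats 1000000

noncomputable section

universe u

open CategoryTheory CategoryTheory.Limits Opposite AlgebraicGeometry
open DerivedCategory (Q)
attribute [local instance] HasDerivedCategory.standard

namespace Groth.Agent.DPF49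

section Sum

open HTor49 in
/-- A map between finite sums with invertible components becomes invertible. -/
theorem isIso_map_of_sumData {C D : Type*} [Category C] [Category D] [Preadditive C] [Preadditive D] {J : Type*}
    {F F' : J → C} {A B : C} (dA : SumData F A) (dB : SumData F' B) (R : C ⥤ D) [R.Additive]
    (φ : A ⟶ B) (α : ∀ j, F j ⟶ F' j) (h : ∀ j, dA.ι j ≫ φ = α j ≫ dB.ι j) (hα : ∀ j, IsIso (R.map (α j))) :
    IsIso (R.map φ) := by
  haveI := hα
  refine ⟨Cofan.IsColimit.desc (dB.map R).isColimit fun j => inv (R.map (α j)) ≫ R.map (dA.ι j), ?_, ?_⟩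
  · refine Cofan.IsColimit.hom_ext (dA.map R).isColimit _ _ fun j => ?_
    change R.map (dA.ι j) ≫ R.map φ ≫ _ = R.map (dA.ι j) ≫ 𝟙 _
    rw [← R.map_comp_assoc, h j, R.map_comp_assoc, Category.comp_id]
    refine (congrArg (R.map (α j) ≫ ·) (Cofan.IsColimit.fac (dB.map R).isColimit _ j)).trans ?_
    rw [IsIso.hom_inv_id_assoc]
  · refine Cofan.IsColimit.hom_ext (dB.map R).isColimit _ _ fun j => ?_
    refine (Category.assoc _ _ _).symm.trans ((congrArg (· ≫ R.map φ)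
      (Cofan.IsColimit.fac (dB.map R).isColimit _ j)).trans ?_)
    rw [Category.assoc, ← R.map_comp, h j, R.map_comp, IsIso.inv_hom_id_assoc]
    exact (Category.comp_id _).symm

end Sum

/-- A morphism is invertible on an open as soon as it is bijective on the affine opens inside. -/
theorem isIso_restrict_of_affines {X : Scheme.{u}} {M N : X.Modules} (φ : M ⟶ N) (W : X.Opens)
    (h : ∀ W' : X.Opens, W' ≤ W → IsAffineOpen W' → Function.Bijective (φ.app W')) :
    IsIso ((Scheme.Modules.restrictFunctor W.ι).map φ) :=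
  RB70.isIso_of_bijective_affines _ fun {V} hV =>
    h (W.ι ''ᵁ V) ((W.ι.image_mono le_top).trans W.ι_image_top.le) (hV.image_of_isOpenImmersion W.ι)

/-- Quasi-isomorphisms after an exact functor, tested in the derived category. -/
lemma isIso_resD_map_iff {X U : Scheme.{u}} (j : U ⟶ X) [IsOpenImmersion j] {F F' : CochainComplex X.Modules ℤ}
    (φ : F ⟶ F') : IsIso ((DCX42.resD j).map (Q.map φ)) ↔ QuasiIso ((DCX42.resCx j).map φ) := by
  rw [← DerivedCategory.isIso_Q_map_iff_quasiIso]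
  exact NatIso.isIso_map_iff (Scheme.Modules.restrictFunctor j).mapDerivedCategoryFactors φ

/-- Direct image commutes with restriction, on complexes. -/
def pushResCx {X Y : Scheme.{u}} (f : X ⟶ Y) (V : Y.Opens) :
    pC f ⋙ DCX42.resCx V.ι ≅ DCX42.resCx (f ⁻¹ᵁ V).ι ⋙ pC (f ∣_ V) :=
  NatIso.ofComponents (fun F => HomologicalComplex.Hom.isoOfComponents
    (fun i => (GSS45.RelExt.pushRestrictIso f V).app (F.X i))
    fun i k _ => ((GSS45.RelExt.pushRestrictIso f V).hom.naturality (F.d i k)).symm)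
    fun φ => HomologicalComplex.hom_ext _ _ fun i => (GSS45.RelExt.pushRestrictIso f V).hom.naturality (φ.f i)

/-- Quasi-isomorphy of a restricted direct image. -/
lemma quasiIso_res_push {X Y : Scheme.{u}} (f : X ⟶ Y) (V : Y.Opens) {F F' : CochainComplex X.Modules ℤ}
    (φ : F ⟶ F') (h : QuasiIso ((pC (f ∣_ V)).map ((DCX42.resCx (f ⁻¹ᵁ V).ι).map φ))) :
    QuasiIso ((DCX42.resCx V.ι).map ((pC f).map φ)) :=
  (DerivedCategory.isIso_Q_map_iff_quasiIso _ _).1 <|
    (NatIso.isIso_map_iff (Functor.isoWhiskerRight (pushResCx f V) Q) φ).2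
      ((DerivedCategory.isIso_Q_map_iff_quasiIso _ _).2 h)

variable {Z X₁ X₂ S : Scheme.{u}} (p : Z ⟶ X₁) (q : Z ⟶ X₂) (f₁ : X₁ ⟶ S) (f₂ : X₂ ⟶ S)

/-- The comparison with the derived direct image. -/
def kapNat (w : p ≫ f₁ = q ≫ f₂) [DCoh.HasRpush p] (P : CochainComplex X₁.Modules ℤ) :
    cSrc f₁ f₂ P ⋙ Q ⟶ cTgt p q P ⋙ Q ⋙ DCoh.Rpush p :=
  Functor.whiskerRight (cNat p q f₁ f₂ w P) Q ≫ (Functor.associator _ _ _).hom ≫
    Functor.whiskerLeft (cTgt p q P) (rpushU p)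

lemma kapNat_app (w : p ≫ f₁ = q ≫ f₂) [DCoh.HasRpush p] (P : CochainComplex X₁.Modules ℤ)
    (N : CochainComplex X₂.Modules ℤ) :
    (kapNat p q f₁ f₂ w P).app N = Q.map ((cNat p q f₁ f₂ w P).app N) ≫ (rpushU p).app ((cTgt p q P).obj N) :=
  congrArg (Q.map ((cNat p q f₁ f₂ w P).app N) ≫ ·) (Category.id_comp _)

section Restricted

variable {V : S.Opens} {W : X₁.Opens}

/-- The square restricted over an affine open is cartesian over a ring. -/
theorem exists_restricted_square (hsq : IsPullback p q f₁ f₂) (hV : IsAffineOpen V) (hWV : W ≤ f₁ ⁻¹ᵁ V) :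
    ∃ (g₁ : (W : Scheme.{u}) ⟶ Spec Γ(S, V)) (q' : ((p ⁻¹ᵁ W : Z.Opens) : Scheme.{u}) ⟶ (f₂ ⁻¹ᵁ V : X₂.Opens)),
      q' ≫ (f₂ ⁻¹ᵁ V).ι = (p ⁻¹ᵁ W).ι ≫ q ∧ IsPullback (p ∣_ W) q' g₁ ((f₂ ∣_ V) ≫ hV.isoSpec.hom) := by
  have eZ : p ⁻¹ᵁ W ≤ q ⁻¹ᵁ (f₂ ⁻¹ᵁ V) := fun z hz => by
    show (q ≫ f₂) z ∈ V
    rw [← hsq.w]
    exact hWV hz
  refine ⟨f₁.resLE V W hWV ≫ hV.isoSpec.hom, q.resLE _ _ eZ, Scheme.Hom.resLE_comp_ι q eZ, ?_⟩
  have h1 : IsPullback (p ∣_ W) ((p ⁻¹ᵁ W).ι ≫ q) (W.ι ≫ f₁) f₂ :=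
    (isPullback_morphismRestrict p W).paste_vert hsq
  rw [← Scheme.Hom.resLE_comp_ι f₁ hWV, ← Scheme.Hom.resLE_comp_ι q eZ] at h1
  have H₀ : IsPullback (p ∣_ W) (q.resLE _ _ eZ) (f₁.resLE V W hWV) (f₂ ∣_ V) := by
    refine IsPullback.of_bot h1 ?_ (isPullback_morphismRestrict f₂ V)
    rw [← cancel_mono V.ι, Category.assoc, Category.assoc, Scheme.Hom.resLE_comp_ι, morphismRestrict_ι,
      morphismRestrict_ι_assoc, Scheme.Hom.resLE_comp_ι_assoc, hsq.w]
  exact H₀.of_iso (Iso.refl _) (Iso.refl _) (Iso.refl _) hV.isoSpec (by simp) (by simp) (by simp) (by simp)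

/-- The external products of quasi-coherent modules with sums of direct images from affine opens are such sums. -/
theorem cls_restrict_box (hsq : IsPullback p q f₁ f₂) [IsSeparated f₂] (hV : IsAffineOpen V)
    (hW : IsAffineOpen W) (hWV : W ≤ f₁ ⁻¹ᵁ V) (M : X₁.Modules) [M.IsQuasicoherent] (N : X₂.Modules)
    (hN : HTor49.Cls ((Scheme.Modules.restrictFunctor (f₂ ⁻¹ᵁ V).ι).obj N)) :
    HTor49.Cls ((Scheme.Modules.restrictFunctor (p ⁻¹ᵁ W).ι).obj (HTor49.box p q M N)) := by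
  obtain ⟨g₁, q', hq', H⟩ := exists_restricted_square p q f₁ f₂ hsq hV hWV
  haveI : IsAffine (W : Scheme.{u}) := hW
  haveI : IsSeparated ((f₂ ∣_ V) ≫ hV.isoSpec.hom) := inferInstance
  haveI : IsSeparated (p ∣_ W) := MorphismProperty.of_isPullback H.flip ‹_›
  haveI : IsSeparated ((p ∣_ W) ≫ g₁) := inferInstance
  haveI := HTor49.isSeparated_of_over (A := Γ(S, V)) ((f₂ ∣_ V) ≫ hV.isoSpec.hom)
  haveI := HTor49.isSeparated_of_over (A := Γ(S, V)) ((p ∣_ W) ≫ g₁)
  have hM : HTor49.Cls (M.restrict W.ι) :=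
    .loc ⊤ (isAffineOpen_top _) (isQuasicoherent_restrict W.ι M) (HTor49.loc_top _)
  exact .iso (boxResIso p q (p ∣_ W) q' (p ⁻¹ᵁ W).ι W.ι (f₂ ⁻¹ᵁ V).ι (morphismRestrict_ι p W) hq' M N).symm
    (HTor49.cls_box (A := Γ(S, V)) H hM hN)

variable (hsq : IsPullback p q f₁ f₂) [QuasiCompact f₂] [IsSeparated f₂] [DCoh.HasRpush p]
  (P : CochainComplex X₁.Modules ℤ)

include hsq in
/-- The comparison is invertible over `W` on complexes of sums of direct images from affine opens. -/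
theorem isIso_res_kap_of_cls (hP : ∀ i, Coh.IsQCoh (P.X i)) {b₁ b₂ : ℤ} (hb₁ : ∀ i, b₁ < i → IsZero (P.X i))
    (hV : IsAffineOpen V) (hW : IsAffineOpen W) (hWV : W ≤ f₁ ⁻¹ᵁ V) (N : CochainComplex X₂.Modules ℤ)
    (hN : ∀ i, HTor49.Cls ((Scheme.Modules.restrictFunctor (f₂ ⁻¹ᵁ V).ι).obj (N.X i)))
    (hb₂ : ∀ i, b₂ < i → IsZero (N.X i)) :
    IsIso ((DCX42.resD W.ι).map ((kapNat p q f₁ f₂ hsq.w P).app N)) := by
  have hterm : ∀ i j, IsIso ((Scheme.Modules.restrictFunctor W.ι).map (cMod p q f₁ f₂ hsq.w (P.X i) (N.X j))) :=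
    fun i j => isIso_restrict_of_affines _ W fun W' hle hW' => by
      haveI := hP i
      exact cMod_app_bijective p q f₁ f₂ hsq (P.X i) (N.X j) hV hW' (hle.trans hWV) (hN j)
  haveI hc : IsIso ((DCX42.resD W.ι).map (Q.map ((cNat p q f₁ f₂ hsq.w P).app N))) := by
    refine (isIso_resD_map_iff W.ι _).2 ?_
    haveI : ∀ n, IsIso (((DCX42.resCx W.ι).map ((cNat p q f₁ f₂ hsq.w P).app N)).f n) := fun n => by
      refine isIso_map_of_sumData
        (HTor49.tgtTotData (DCoh.tensorBi (X := X₁)) (𝟭 X₁.Modules)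
          (Scheme.Modules.pushforward f₂ ⋙ Scheme.Modules.pullback f₁) P N n hb₁ hb₂)
        ((HTor49.tgtTotData (DCoh.tensorBi (X := Z)) (Scheme.Modules.pullback p) (Scheme.Modules.pullback q)
          P N n hb₁ hb₂).map (Scheme.Modules.pushforward p))
        (Scheme.Modules.restrictFunctor W.ι) _ (fun r => cMod p q f₁ f₂ hsq.w (P.X r.1.1) (N.X r.1.2))
        (fun r => ?_) fun r => hterm _ _
      exact HTor49.ι_totCmpApp (DCoh.tensorBi (X := Z)) (DCoh.tensorBi (X := X₁)) (Scheme.Modules.pullback p)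
        (Scheme.Modules.pullback q) (𝟭 X₁.Modules) (Scheme.Modules.pushforward f₂ ⋙ Scheme.Modules.pullback f₁)
        (Scheme.Modules.pushforward p) (cMod p q f₁ f₂ hsq.w) P N r.1.1 r.1.2 n r.2
    haveI : IsIso ((DCX42.resCx W.ι).map ((cNat p q f₁ f₂ hsq.w P).app N)) :=
      HomologicalComplex.Hom.isIso_of_components _
    infer_instance
  let C := (cTgt p q P).obj N
  obtain ⟨J, η, hJ, hη, -⟩ := CohDer42.exists_kinjective_resolution C
  haveI := hη
  haveI hu : IsIso ((DCX42.resD W.ι).map ((rpushU p).app C)) := by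
    obtain ⟨g₁, q', -, H⟩ := exists_restricted_square p q f₁ f₂ hsq hV hWV
    haveI : IsAffine (W : Scheme.{u}) := hW
    haveI : QuasiCompact ((f₂ ∣_ V) ≫ hV.isoSpec.hom) := inferInstance
    haveI : IsSeparated ((f₂ ∣_ V) ≫ hV.isoSpec.hom) := inferInstance
    haveI : QuasiCompact (p ∣_ W) := MorphismProperty.of_isPullback H.flip ‹_›
    haveI : IsSeparated (p ∣_ W) := MorphismProperty.of_isPullback H.flip ‹_›
    haveI : IsSeparated ((p ∣_ W) ≫ g₁) := inferInstance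
    haveI := HTor49.isSeparated_of_over (A := Γ(S, V)) ((p ∣_ W) ≫ g₁)
    haveI := DCX42.hasRpush (p ∣_ W)
    haveI : ((W : Scheme.{u})).IsSeparated := inferInstance
    have hC : ∀ n, HTor49.Cls ((Scheme.Modules.restrictFunctor (p ⁻¹ᵁ W).ι).obj (C.X n)) := fun n =>
      HTor49.SumData.induction HTor49.Cls (fun _ h => .zero h) (fun _ _ => .biprod) (fun _ _ e h => .iso e h)
        ((HTor49.tgtTotData (DCoh.tensorBi (X := Z)) (Scheme.Modules.pullback p) (Scheme.Modules.pullback q)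
          P N n hb₁ hb₂).map (Scheme.Modules.restrictFunctor (p ⁻¹ᵁ W).ι))
        fun r => by
          haveI := hP r.1.1
          exact cls_restrict_box p q f₁ f₂ hsq hV hW hWV (P.X r.1.1) (N.X r.1.2) (hN r.1.2)
    haveI : QuasiIso ((DCX42.resCx (p ⁻¹ᵁ W).ι).map η) := inferInstance
    have h2 : QuasiIso ((DCX42.resCx W.ι).map ((pC p).map η)) :=
      quasiIso_res_push p W η (quasiIso_push_of_acyclic (p ∣_ W) _ (DCX42.isKInjective_restrict _ J hJ)
        (fun n => (hC n).isQCoh) fun n V' hV' => acyAt_preimage_of_cls (p ∣_ W) (hC n) V' hV')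
    haveI h3 : IsIso ((DCX42.resD W.ι).map (Q.map ((pC p).map η))) := (isIso_resD_map_iff W.ι _).2 h2
    haveI := isIso_rpushU p J hJ
    haveI : IsIso (Q.map η) := (DerivedCategory.isIso_Q_map_iff_quasiIso _ _).2 hη
    have hn : Q.map ((pC p).map η) ≫ (rpushU p).app J = (rpushU p).app C ≫ (DCoh.Rpush p).map (Q.map η) :=
      (rpushU p).naturality η
    have h4 : IsIso ((DCX42.resD W.ι).map ((rpushU p).app C ≫ (DCoh.Rpush p).map (Q.map η))) := by
      rw [← hn, Functor.map_comp]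
      infer_instance
    rw [Functor.map_comp] at h4
    exact IsIso.of_isIso_comp_right _ ((DCX42.resD W.ι).map ((DCoh.Rpush p).map (Q.map η)))
  rw [kapNat_app, Functor.map_comp]
  infer_instance

omit [QuasiCompact f₂] [IsSeparated f₂] in
include hsq in
/-- The comparison over `W` does not see maps invertible over `V`. -/
theorem isIso_res_kap_iff (hfl : ∀ i, FlatMod.IsFlatOver f₁ (P.X i)) {b₁ : ℤ}
    (hb₁ : ∀ i, b₁ < i → IsZero (P.X i)) (hWV : W ≤ f₁ ⁻¹ᵁ V) {N N' : CochainComplex X₂.Modules ℤ} (σ : N ⟶ N')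
    (h₁ : QuasiIso ((DCX42.resCx V.ι).map ((pC f₂).map σ)))
    (h₂ : QuasiIso ((DCX42.resCx (f₂ ⁻¹ᵁ V).ι).map σ)) :
    IsIso ((DCX42.resD W.ι).map ((kapNat p q f₁ f₂ hsq.w P).app N)) ↔
      IsIso ((DCX42.resD W.ι).map ((kapNat p q f₁ f₂ hsq.w P).app N')) := by
  haveI s₁ : IsIso ((DCX42.resD W.ι).map (Q.map ((cSrc f₁ f₂ P).map σ))) :=
    (isIso_resD_map_iff W.ι _).2 (quasiIso_tensPull_local hfl hb₁ hWV _ h₁)
  have eZ : p ⁻¹ᵁ W ≤ q ⁻¹ᵁ (f₂ ⁻¹ᵁ V) := fun z hz => by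
    show (q ≫ f₂) z ∈ V
    rw [← hsq.w]
    exact hWV hz
  have hfl' : ∀ i, FlatMod.IsFlatOver q (((HTor.pullCx p).obj P).X i) := fun i =>
    PerfFib24.isFlatOver_baseChange hsq (P.X i) (hfl i)
  have hb' : ∀ i, b₁ < i → IsZero (((HTor.pullCx p).obj P).X i) := fun i hi =>
    (Scheme.Modules.pullback p).map_isZero (hb₁ i hi)
  haveI t₁ : IsIso ((DCX42.resD (p ⁻¹ᵁ W).ι).map (Q.map ((cTgt p q P).map σ))) :=
    (isIso_resD_map_iff _ _).2 (quasiIso_tensPull_local hfl' hb' eZ σ h₂)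
  haveI := DCX42.hasRpush (p ∣_ W)
  obtain ⟨e⟩ := DCX42.nonempty_Rpush_restrict p W
  haveI s₂ : IsIso ((DCX42.resD W.ι).map ((DCoh.Rpush p).map (Q.map ((cTgt p q P).map σ)))) :=
    (NatIso.isIso_map_iff e _).2 (inferInstanceAs
      (IsIso ((DCoh.Rpush (p ∣_ W)).map ((DCX42.resD (p ⁻¹ᵁ W).ι).map (Q.map ((cTgt p q P).map σ))))))
  have hn : Q.map ((cSrc f₁ f₂ P).map σ) ≫ (kapNat p q f₁ f₂ hsq.w P).app N' =
      (kapNat p q f₁ f₂ hsq.w P).app N ≫ (DCoh.Rpush p).map (Q.map ((cTgt p q P).map σ)) :=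
    (kapNat p q f₁ f₂ hsq.w P).naturality σ
  have hn' := congrArg (DCX42.resD W.ι).map hn
  rw [Functor.map_comp, Functor.map_comp] at hn'
  refine ⟨fun h => ?_, fun h => ?_⟩
  · haveI := h
    have h' : IsIso ((DCX42.resD W.ι).map (Q.map ((cSrc f₁ f₂ P).map σ)) ≫
        (DCX42.resD W.ι).map ((kapNat p q f₁ f₂ hsq.w P).app N')) := by
      rw [hn']; infer_instance
    exact IsIso.of_isIso_comp_left ((DCX42.resD W.ι).map (Q.map ((cSrc f₁ f₂ P).map σ))) _
  · haveI := h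
    have h' : IsIso ((DCX42.resD W.ι).map ((kapNat p q f₁ f₂ hsq.w P).app N) ≫
        (DCX42.resD W.ι).map ((DCoh.Rpush p).map (Q.map ((cTgt p q P).map σ)))) := by
      rw [← hn']; infer_instance
    exact IsIso.of_isIso_comp_right _
      ((DCX42.resD W.ι).map ((DCoh.Rpush p).map (Q.map ((cTgt p q P).map σ))))

end Restricted

end Groth.Agent.DPF49
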