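import Groth.Agent.DPF49.LocalPre

/-!
The derived tensor product exists for every complex and is symmetric on objects.
-/

set_option autoImplicit false
set_option backward.isDefEq.respectTransparency.types false
set_option linter.style.haveILetI false

noncomputable section

universe u

open CategoryTheory CategoryTheory.Limits AlgebraicGeometry
attribute [local instance] HasDerivedCategory.standard

namespace Groth.Agent.DPF49

section Site

open Groth.Agent.Mod48 Groth.Agent.DerComp18

variable {C : Type u} [SmallCategory C] {J : GrothendieckTopology C} {O : Sheaf J CommRingCat.{u}}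

/-- The derived tensor product with an arbitrary complex exists. -/
theorem hasLTensor_site (P : CC O) : ModSite.HasLTensorCx P := by
  obtain ⟨G, α, hG, -⟩ := DCK91.exists_leftDerived (DerivedCategory.Qh) hasRes_KFl (inverts_KFl P)
  let q := HomotopyCategory.quotient (ModSite.Mod O) (ComplexShape.up ℤ)
  let eF : q ⋙ tensorKh P ≅ ModSite.tensorCxQ P := CategoryTheory.Quotient.lift.isLift _ _ _
  let eL : q ⋙ DerivedCategory.Qh ≅ DerivedCategory.Q := DerivedCategory.quotientCompQhIso (ModSite.Mod O)
  let a : DerivedCategory.Q ⋙ G ⟶ ModSite.tensorCxQ P :=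
    Functor.whiskerRight eL.inv G ≫ (Functor.associator _ _ _).hom ≫ Functor.whiskerLeft q α ≫ eF.hom
  have ha : G.IsRightKanExtension a :=
    isRightKanExtension_of_quotient eL eF G α hG.isRightKanExtension a fun Y => by simp [a, q]
  haveI : G.IsLeftDerivedFunctor a (HomologicalComplex.quasiIso (ModSite.Mod O) (ComplexShape.up ℤ)) := ⟨ha⟩
  exact Functor.HasLeftDerivedFunctor.mk' (L := DerivedCategory.Q) (LF := G) (α := a)

end Site

variable {X : Scheme.{u}}

/-- The derived tensor product with an arbitrary complex exists. -/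
theorem hasLTensor (L : CochainComplex X.Modules ℤ) : DCoh.HasLTensorCx L :=
  hasLTensor_site (O := X.sheaf) L

/-- The derived tensor product is symmetric on objects. -/
theorem nonempty_ltensor_symm (A B : CochainComplex X.Modules ℤ) [DCoh.HasLTensorCx A] [DCoh.HasLTensorCx B] :
    Nonempty ((DCoh.LTensorCx A).obj (DerivedCategory.Q.obj B) ≅ (DCoh.LTensorCx B).obj (DerivedCategory.Q.obj A)) := by
  obtain ⟨P, hP, ⟨e⟩, h⟩ := exists_ltensor_kflat A
  haveI := PerfFib24.hasLTensorCx P hP
  obtain ⟨k⟩ := h (DerivedCategory.Q.obj B)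
  obtain ⟨a⟩ := DCK91.nonempty_ltcIso P hP B
  obtain ⟨b⟩ := TorStalk41.nonempty_ltensorIso B P hP
  exact ⟨k ≪≫ a ≪≫ DerivedCategory.Q.mapIso (Mod48.tcSymm (O := X.sheaf) B P) ≪≫ b.symm ≪≫
    (DCoh.LTensorCx B).mapIso e⟩

end Groth.Agent.DPF49
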