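import Groth.Agent.DPF49.KunnethLocal
import Groth.Agent.HTor49.BoxMain
import Groth.Agent.DCX42.Coh
import Groth.Agent.DCX42.RHomLocal
import Groth.Agent.DPF49.Symm

/-!
Künneth over an arbitrary base, with a complex flat over the base.
-/

set_option autoImplicit false
set_option backward.isDefEq.respectTransparency false
set_option backward.isDefEq.respectTransparency.types false
set_option synthInstance.maxHeartbeats 200000
set_option maxSynthPendingDepth 6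
set_option linter.style.haveILetI false
set_option maxHeartbeats 1000000

noncomputable section

universe u

open CategoryTheory CategoryTheory.Limits Opposite AlgebraicGeometry
open DerivedCategory (Q)
attribute [local instance] HasDerivedCategory.standard

namespace Groth.Agent.DPF49

/-- A morphism of derived categories invertible near every point is invertible. -/
theorem isIso_of_resD_cover {X : Scheme.{u}} {K L : DCoh.D X} (d : K ⟶ L)
    (h : ∀ x : X, ∃ W : X.Opens, x ∈ W ∧ IsIso ((DCX42.resD W.ι).map d)) : IsIso d := by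
  rw [DerivedCategory.isIso_iff]
  intro j
  refine Omega57.isIso_of_restrict _ fun x => ?_
  obtain ⟨W, hx, hW⟩ := h x
  haveI := hW
  exact ⟨W, W.ι, inferInstance, ⟨⟨x, hx⟩, rfl⟩,
    (NatIso.isIso_map_iff (Mod48.homologyMapDerivedIso (Scheme.Modules.restrictFunctor W.ι) j) d).1
      (inferInstanceAs (IsIso ((DerivedCategory.homologyFunctor _ j).map ((DCX42.resD W.ι).map d))))⟩

variable {Z X₁ X₂ S : Scheme.{u}} (p : Z ⟶ X₁) (q : Z ⟶ X₂) (f₁ : X₁ ⟶ S) (f₂ : X₂ ⟶ S)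

/-- The comparison is invertible on K-injective complexes with quasi-coherent bounded above models. -/
theorem isIso_kap (hsq : IsPullback p q f₁ f₂) [QuasiCompact f₂] [IsSeparated f₂] [DCoh.HasRpush p]
    (P : CochainComplex X₁.Modules ℤ) (hP : ∀ i, Coh.IsQCoh (P.X i)) {b₁ : ℤ}
    (hb₁ : ∀ i, b₁ < i → IsZero (P.X i)) (hfl : ∀ i, FlatMod.IsFlatOver f₁ (P.X i))
    (P₂ : CochainComplex X₂.Modules ℤ) (hq₂ : ∀ i, Coh.IsQCoh (P₂.X i)) {b₂ : ℤ}
    (hb₂ : ∀ i, b₂ < i → IsZero (P₂.X i)) (N : CochainComplex X₂.Modules ℤ) (hN : N.IsKInjective)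
    (η : P₂ ⟶ N) (hη : QuasiIso η) : IsIso ((kapNat p q f₁ f₂ hsq.w P).app N) := by
  haveI := hη
  refine isIso_of_resD_cover _ fun x => ?_
  obtain ⟨V, hV, hxV, -⟩ := exists_isAffineOpen_mem_and_subset (X := S) (x := f₁ x) (U := ⊤) trivial
  obtain ⟨W, hW, hxW, hWV⟩ := exists_isAffineOpen_mem_and_subset (X := X₁) (x := x) (U := f₁ ⁻¹ᵁ V) hxV
  refine ⟨W, hxW, ?_⟩
  let U₂ := f₂ ⁻¹ᵁ V
  haveI : IsAffine (V : Scheme.{u}) := hV
  haveI : IsSeparated (f₂ ∣_ V) := inferInstance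
  haveI : QuasiCompact (f₂ ∣_ V) := inferInstance
  haveI : IsSeparated ((f₂ ∣_ V) ≫ hV.isoSpec.hom) := inferInstance
  haveI := HTor49.isSeparated_of_over (A := Γ(S, V)) ((f₂ ∣_ V) ≫ hV.isoSpec.hom)
  haveI : CompactSpace (U₂ : Scheme.{u}) := QuasiCompact.compactSpace_of_compactSpace (f₂ ∣_ V)
  haveI := DCX42.hasRpush (f₂ ∣_ V)
  obtain ⟨n, U, hU, hcov⟩ := HTor49.exists_fin_affine_cover (U₂ : Scheme.{u})
  let R := DCX42.resCx U₂.ι
  have hq' : ∀ i, Coh.IsQCoh ((R.obj P₂).X i) := fun i => by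
    haveI := hq₂ i
    exact isQuasicoherent_restrict U₂.ι (P₂.X i)
  have hb' : ∀ i, b₂ < i → IsZero ((R.obj P₂).X i) := fun i hi =>
    (Scheme.Modules.restrictFunctor U₂.ι).map_isZero (hb₂ i hi)
  obtain ⟨T, t, ht, hT, -, hTb, -⟩ :=
    HTor49.exists_resolution (P := R.obj P₂) (b := b₂) hq' n U hU hcov hb' 0
  haveI := ht
  have hRN : (R.obj N).IsKInjective := DCX42.isKInjective_restrict _ N hN
  haveI : QuasiIso (R.map η) := inferInstance
  haveI i₁ : IsIso (Q.map t) := (DerivedCategory.isIso_Q_map_iff_quasiIso _ _).2 ht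
  haveI i₂ : IsIso (Q.map (R.map η)) := (DerivedCategory.isIso_Q_map_iff_quasiIso _ _).2 inferInstance
  obtain ⟨φ, hφ⟩ := exists_map_kinj ((asIso (Q.map t)).symm ≪≫ asIso (Q.map (R.map η))) hRN
  haveI hφq : QuasiIso φ := (DerivedCategory.isIso_Q_map_iff_quasiIso _ _).1 (by rw [hφ]; infer_instance)
  let jC := pC U₂.ι
  let ρ : N ⟶ jC.obj (R.obj N) :=
    (NatTrans.mapHomologicalComplex (Scheme.Modules.restrictAdjunction U₂.ι).unit (ComplexShape.up ℤ)).app N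
  let σ : jC.obj T ⟶ jC.obj (R.obj N) := jC.map φ
  haveI hρ : IsIso (R.map ρ) := by
    haveI : ∀ i, IsIso ((R.map ρ).f i) := fun i => by
      have h := (Scheme.Modules.restrictAdjunction U₂.ι).left_triangle_components (N.X i)
      haveI : IsIso ((Scheme.Modules.restrictFunctor U₂.ι).map
          ((Scheme.Modules.restrictAdjunction U₂.ι).unit.app (N.X i)) ≫
          (Scheme.Modules.restrictAdjunction U₂.ι).counit.app _) := h.symm ▸ IsIso.id _
      exact IsIso.of_isIso_comp_right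
        ((Scheme.Modules.restrictFunctor U₂.ι).map ((Scheme.Modules.restrictAdjunction U₂.ι).unit.app (N.X i)))
        ((Scheme.Modules.restrictAdjunction U₂.ι).counit.app _)
    exact HomologicalComplex.Hom.isIso_of_components _
  let e : jC ⋙ R ≅ 𝟭 _ := NatIso.ofComponents
    (fun C => HomologicalComplex.Hom.isoOfComponents
      (fun i => asIso ((Scheme.Modules.restrictAdjunction U₂.ι).counit.app (C.X i)))
      fun i k _ => ((Scheme.Modules.restrictAdjunction U₂.ι).counit.naturality (C.d i k)).symm)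
    fun ψ => HomologicalComplex.hom_ext _ _ fun i => (Scheme.Modules.restrictAdjunction U₂.ι).counit.naturality (ψ.f i)
  have hsigma : IsIso (Q.map (R.map σ)) :=
    (NatIso.isIso_map_iff (Functor.isoWhiskerRight e Q) φ).2 ((DerivedCategory.isIso_Q_map_iff_quasiIso _ _).2 hφq)
  have hpush : QuasiIso ((pC (f₂ ∣_ V)).map φ) :=
    quasiIso_push_of_acyclic (f₂ ∣_ V) φ hRN (fun i => (hT i).isQCoh)
      fun i V' hV' => acyAt_preimage_of_cls (f₂ ∣_ V) (hT i) V' hV'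
  have hsigma' : QuasiIso ((pC (f₂ ∣_ V)).map (R.map σ)) :=
    (DerivedCategory.isIso_Q_map_iff_quasiIso _ _).1
      ((NatIso.isIso_map_iff (Functor.isoWhiskerRight e (pC (f₂ ∣_ V) ⋙ Q)) φ).2
        ((DerivedCategory.isIso_Q_map_iff_quasiIso _ _).2 hpush))
  have hN' : ∀ i, HTor49.Cls ((Scheme.Modules.restrictFunctor U₂.ι).obj ((jC.obj T).X i)) := fun i =>
    .iso (asIso ((Scheme.Modules.restrictAdjunction U₂.ι).counit.app (T.X i))).symm (hT i)
  refine (isIso_res_kap_iff p q f₁ f₂ hsq P hfl hb₁ hWV ρ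
    (quasiIso_res_push f₂ V ρ (inferInstanceAs (QuasiIso ((pC (f₂ ∣_ V)).map (R.map ρ)))))
    inferInstance).2 ?_
  refine (isIso_res_kap_iff p q f₁ f₂ hsq P hfl hb₁ hWV σ (quasiIso_res_push f₂ V σ hsigma')
    ((DerivedCategory.isIso_Q_map_iff_quasiIso _ _).1 hsigma)).1 ?_
  exact isIso_res_kap_of_cls p q f₁ f₂ hsq P hP hb₁ hV hW hWV (jC.obj T) hN'
    fun i hi => (Scheme.Modules.pushforward U₂.ι).map_isZero (hTb i hi)

variable {p q f₁ f₂}

/-- Künneth: the derived direct image of an external product. -/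
theorem nonempty_kunneth (hsq : IsPullback p q f₁ f₂) [QuasiCompact f₂] [IsSeparated f₂] [DCoh.HasRpush p]
    [DCoh.HasRpush f₂] [DCoh.HasLpull f₁]
    (P₁ : CochainComplex X₁.Modules ℤ) (hq₁ : ∀ i, Coh.IsQCoh (P₁.X i)) {b₁ : ℤ}
    (hb₁ : ∀ i, b₁ < i → IsZero (P₁.X i)) (hfl : ∀ i, FlatMod.IsFlatOver f₁ (P₁.X i))
    (P₂ : CochainComplex X₂.Modules ℤ) (hq₂ : ∀ i, Coh.IsQCoh (P₂.X i)) {b₂ : ℤ}
    (hb₂ : ∀ i, b₂ < i → IsZero (P₂.X i))
    (E₂ : CochainComplex S.Modules ℤ) (hE₂ : Nonempty (DCoh.toD S E₂ ≅ (DCoh.Rpush f₂).obj (DCoh.toD X₂ P₂))) :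
    ∃ (M : CochainComplex X₁.Modules ℤ) (_ : DCoh.HasLTensorCx M),
      Nonempty (DCoh.toD X₁ M ≅ (DCoh.Lpull f₁).obj (DCoh.toD S E₂)) ∧
      Nonempty ((DCoh.LTensorCx M).obj (DCoh.toD X₁ P₁) ≅
        (DCoh.Rpush p).obj (DCoh.toD Z ((cTgt p q P₁).obj P₂))) := by
  obtain ⟨eE⟩ := hE₂
  obtain ⟨N, η, hN, hη, -⟩ := CohDer42.exists_kinjective_resolution P₂
  haveI := hη
  haveI := isIso_rpushU f₂ N hN
  haveI := isIso_kap p q f₁ f₂ hsq P₁ hq₁ hb₁ hfl P₂ hq₂ hb₂ N hN η hη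
  haveI : QuasiIso ((cTgt p q P₁).map η) :=
    quasiIso_tensPull (b := b₁) (fun i => PerfFib24.isFlatOver_baseChange hsq (P₁.X i) (hfl i))
      (fun i hi => (Scheme.Modules.pullback p).map_isZero (hb₁ i hi)) η
  haveI : IsIso (Q.map η) := (DerivedCategory.isIso_Q_map_iff_quasiIso _ _).2 hη
  haveI : IsIso (Q.map ((cTgt p q P₁).map η)) := (DerivedCategory.isIso_Q_map_iff_quasiIso _ _).2 inferInstance
  obtain ⟨F, hF, ⟨eF⟩⟩ := TorStalk41.exists_kflat_rep E₂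
  have hinv : (HomologicalComplex.quasiIso S.Modules (ComplexShape.up ℤ)).IsInvertedBy (tensPullCx f₁ P₁ ⋙ Q) :=
    fun {K L} φ hφ => by
      haveI : QuasiIso φ := (HomologicalComplex.mem_quasiIso_iff φ).1 hφ
      exact (DerivedCategory.isIso_Q_map_iff_quasiIso _ _).2 (quasiIso_tensPull hfl hb₁ φ)
  let Ψ := Localization.lift (tensPullCx f₁ P₁ ⋙ Q) hinv Q
  let fac : Q ⋙ Ψ ≅ tensPullCx f₁ P₁ ⋙ Q := Localization.fac _ hinv Q
  let eN : Q.obj F ≅ Q.obj ((pC f₂).obj N) :=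
    eF ≪≫ eE ≪≫ (DCoh.Rpush f₂).mapIso (asIso (Q.map η)) ≪≫ (asIso ((rpushU f₂).app N)).symm
  obtain ⟨e1⟩ := DCK91.nonempty_lpullIso f₁ F hF
  haveI := hasLTensor ((qC f₁).obj F)
  obtain ⟨e2⟩ := DCK91.nonempty_ltcIso ((qC f₁).obj F) (DCK91.isKFlat_pullback f₁ F hF) P₁
  exact ⟨(qC f₁).obj F, inferInstance, ⟨e1.symm ≪≫ (DCoh.Lpull f₁).mapIso eF⟩,
    ⟨e2 ≪≫ (fac.app F).symm ≪≫ Ψ.mapIso eN ≪≫ fac.app _ ≪≫ asIso ((kapNat p q f₁ f₂ hsq.w P₁).app N) ≪≫
      (DCoh.Rpush p).mapIso (asIso (Q.map ((cTgt p q P₁).map η))).symm⟩⟩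

end Groth.Agent.DPF49
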