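import Groth.Agent.Mum71.TensorSec
import Groth.Agent.Mum71.PullDegZero
import Groth.Agent.HTor49.BoxSec

/-!
Restrictions of inverse images and of external products along open immersions, on sections.
-/

set_option autoImplicit false
set_option backward.isDefEq.respectTransparency false
set_option backward.isDefEq.respectTransparency.types false
set_option linter.style.haveILetI false

noncomputable section

universe u

open CategoryTheory CategoryTheory.Limits Opposite AlgebraicGeometry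
open Groth.Agent.QC70 Groth.Agent.QCPull72

namespace Groth.Agent.DPF49

section One

variable {X Y X' Y' : Scheme.{u}}

/-- A section as a section of the restriction. -/
def rsec (r : X' ⟶ X) [IsOpenImmersion r] (F : X.Modules) (O : X'.Opens) (s : Γ(F, r ''ᵁ O)) :
    Γ(F.restrict r, O) :=
  (F.restrictAppIso r O).inv s

lemma restrictIso_rsec (r : X' ⟶ X) [IsOpenImmersion r] (F : X.Modules) (O : X'.Opens) (s : Γ(F, r ''ᵁ O)) :
    ((Scheme.Modules.restrictFunctorIsoPullback r).hom.app F).app O (rsec r F O s) =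
      unitSec r F (r.preimage_image_eq O).ge s := by
  let α := (Scheme.Modules.restrictFunctorIsoPullback r).hom.app F
  let t : Γ(F.restrict r, r ⁻¹ᵁ (r ''ᵁ O)) :=
    ((Scheme.Modules.restrictAdjunction r).unit.app F).app (r ''ᵁ O) s
  have h : α.app (r ⁻¹ᵁ (r ''ᵁ O)) t = (pullUnit r F).app (r ''ᵁ O) s :=
    congrArg (fun ψ : F ⟶ (Scheme.Modules.pushforward r).obj ((Scheme.Modules.pullback r).obj F) =>
      Scheme.Modules.Hom.app ψ (r ''ᵁ O) s)
      ((Scheme.Modules.restrictAdjunction r).unit_leftAdjointUniq_hom_app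
        (Scheme.Modules.pullbackPushforwardAdjunction r) F)
  have ht : res (F.restrict r) (r.preimage_image_eq O).ge t = (F.restrictAppIso r O).inv s := by
    apply (ConcreteCategory.bijective_of_isIso (F.restrictAppIso r O).hom).injective
    refine Eq.trans ?_ ((F.restrictAppIso r O).inv_hom_id_apply s).symm
    exact (res_res (M := F) (r.image_preimage_le _) (r.image_mono (r.preimage_image_eq O).ge) s).trans
      (res_self s)
  refine (congrArg (α.app O) ht.symm).trans ?_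
  refine (app_res α (r.preimage_image_eq O).ge t).trans ?_
  rw [h]
  rfl

variable (g : Y ⟶ X) (g' : Y' ⟶ X') (r : Y' ⟶ Y) (r' : X' ⟶ X) [IsOpenImmersion r] [IsOpenImmersion r']
  (w : g' ≫ r' = r ≫ g)

/-- Inverse image commutes with restriction. -/
def sqIso (F : X.Modules) :
    ((Scheme.Modules.pullback g).obj F).restrict r ≅ (Scheme.Modules.pullback g').obj (F.restrict r') :=
  (Scheme.Modules.restrictFunctorIsoPullback r).app _ ≪≫ (Scheme.Modules.pullbackComp r g).app F ≪≫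
    (Scheme.Modules.pullbackCongr w.symm).app F ≪≫ ((Scheme.Modules.pullbackComp g' r').app F).symm ≪≫
    (Scheme.Modules.pullback g').mapIso ((Scheme.Modules.restrictFunctorIsoPullback r').app F).symm

lemma sqIso_unitSec (F : X.Modules) {O : X'.Opens} {O' : Y'.Opens} (e : r ''ᵁ O' ≤ g ⁻¹ᵁ (r' ''ᵁ O))
    (e' : O' ≤ g' ⁻¹ᵁ O) (s : Γ(F, r' ''ᵁ O)) :
    (sqIso g g' r r' w F).hom.app O' (rsec r _ O' (unitSec g F e s)) =
      unitSec g' (F.restrict r') e' (rsec r' F O s) := by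
  have e₁ : O' ≤ (r ≫ g) ⁻¹ᵁ (r' ''ᵁ O) := fun x hx => e ⟨x, hx, rfl⟩
  have e₂ : O' ≤ (g' ≫ r') ⁻¹ᵁ (r' ''ᵁ O) := by rw [w]; exact e₁
  show ((Scheme.Modules.pullback g').map ((Scheme.Modules.restrictFunctorIsoPullback r').inv.app F)).app O'
    (((Scheme.Modules.pullbackComp g' r').inv.app F).app O'
      (((Scheme.Modules.pullbackCongr w.symm).hom.app F).app O'
        (((Scheme.Modules.pullbackComp r g).hom.app F).app O'
          (((Scheme.Modules.restrictFunctorIsoPullback r).hom.app ((Scheme.Modules.pullback g).obj F)).app O'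
            (rsec r _ O' (unitSec g F e s)))))) = _
  rw [restrictIso_rsec, Mum71.pullbackComp_unitSec r g F (r.preimage_image_eq O').ge e e₁,
    Mum71.pullbackCongr_unitSec w.symm F e₁ e₂]
  have h1 : ((Scheme.Modules.pullbackComp g' r').inv.app F).app O' (unitSec (g' ≫ r') F e₂ s) =
      unitSec g' ((Scheme.Modules.pullback r').obj F) e' (unitSec r' F (r'.preimage_image_eq O).ge s) := by
    rw [← Mum71.pullbackComp_unitSec g' r' F e' (r'.preimage_image_eq O).ge e₂]
    exact Mum71.hom_inv_app ((Scheme.Modules.pullbackComp g' r').app F) O' _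
  rw [h1, Mum71.pullback_map_unitSec, ← restrictIso_rsec r' F O s]
  exact congrArg (unitSec g' (F.restrict r') e')
    (Mum71.hom_inv_app ((Scheme.Modules.restrictFunctorIsoPullback r').app F) O (rsec r' F O s))

end One

section Box

variable {Z X₁ X₂ Z' X₁' X₂' : Scheme.{u}} (p : Z ⟶ X₁) (q : Z ⟶ X₂) (p' : Z' ⟶ X₁') (q' : Z' ⟶ X₂')
  (r : Z' ⟶ Z) (r₁ : X₁' ⟶ X₁) (r₂ : X₂' ⟶ X₂) [IsOpenImmersion r] [IsOpenImmersion r₁] [IsOpenImmersion r₂]
  (w₁ : p' ≫ r₁ = r ≫ p) (w₂ : q' ≫ r₂ = r ≫ q)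

/-- External products commute with restriction. -/
def boxResIso (M : X₁.Modules) (N : X₂.Modules) :
    (HTor49.box p q M N).restrict r ≅ HTor49.box p' q' (M.restrict r₁) (N.restrict r₂) :=
  (EGA73.tensorRestrictIso r ((Scheme.Modules.pullback p).obj M) ((Scheme.Modules.pullback q).obj N)).symm ≪≫
    EGA73.tensIso (sqIso p p' r r₁ w₁ M) (sqIso q q' r r₂ w₂ N)

lemma boxResIso_bx (M : X₁.Modules) (N : X₂.Modules) {O₁ : X₁'.Opens} {O₂ : X₂'.Opens} {O : Z'.Opens}
    (e₁ : r ''ᵁ O ≤ p ⁻¹ᵁ (r₁ ''ᵁ O₁)) (e₂ : r ''ᵁ O ≤ q ⁻¹ᵁ (r₂ ''ᵁ O₂)) (e₁' : O ≤ p' ⁻¹ᵁ O₁)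
    (e₂' : O ≤ q' ⁻¹ᵁ O₂) (x : Γ(M, r₁ ''ᵁ O₁)) (y : Γ(N, r₂ ''ᵁ O₂)) :
    (boxResIso p q p' q' r r₁ r₂ w₁ w₂ M N).hom.app O (rsec r _ O (HTor49.bx M N e₁ e₂ x y)) =
      HTor49.bx (M.restrict r₁) (N.restrict r₂) e₁' e₂' (rsec r₁ M O₁ x) (rsec r₂ N O₂ y) := by
  let A := (Scheme.Modules.pullback p).obj M
  let B := (Scheme.Modules.pullback q).obj N
  have h1 : (EGA73.tensorRestrictIso r A B).inv.app O
      (rsec r _ O (SecTwist.tmul A B (r ''ᵁ O) (unitSec p M e₁ x) (unitSec q N e₂ y))) =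
      SecTwist.tmul (A.restrict r) (B.restrict r) O (rsec r A O (unitSec p M e₁ x))
        (rsec r B O (unitSec q N e₂ y)) :=
    (congrArg ((EGA73.tensorRestrictIso r A B).inv.app O)
      (Mum71.tensorRestrictIso_app_tmul r A B O (unitSec p M e₁ x) (unitSec q N e₂ y)).symm).trans
      (Mum71.hom_inv_app (EGA73.tensorRestrictIso r A B) O _)
  show (EGA73.tensIso (sqIso p p' r r₁ w₁ M) (sqIso q q' r r₂ w₂ N)).hom.app O
    ((EGA73.tensorRestrictIso r A B).inv.app O _) = _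
  refine (congrArg ((EGA73.tensIso (sqIso p p' r r₁ w₁ M) (sqIso q q' r r₂ w₂ N)).hom.app O) h1).trans ?_
  rw [Mum71.tensIso_app_tmul, sqIso_unitSec p p' r r₁ w₁ M e₁ e₁', sqIso_unitSec q q' r r₂ w₂ N e₂ e₂']
  rfl

end Box

end Groth.Agent.DPF49
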