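import Groth.Agent.DPF49.ProjSec
import Groth.Agent.DPF49.SqIso
import Groth.Agent.HTor49.BoxLoc
import Groth.Agent.GSS45.RelExt

/-!
The comparison of tensor products with direct images is bijective on affine opens over affine opens,
for sums of direct images from affine opens.
-/

set_option autoImplicit false
set_option backward.isDefEq.respectTransparency false
set_option backward.isDefEq.respectTransparency.types false
set_option synthInstance.maxHeartbeats 200000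
set_option maxSynthPendingDepth 6
set_option linter.style.haveILetI false

noncomputable section

universe u

open CategoryTheory CategoryTheory.Limits Opposite AlgebraicGeometry TensorProduct MonoidalCategory
open Groth.Agent.QC70 Groth.Agent.QCPull72

namespace Groth.Agent.DPF49

/-- Restriction of sections as an additive map. -/
def resHom' {X : Scheme.{u}} (M : X.Modules) {U V : X.Opens} (h : V ≤ U) : Γ(M, U) →+ Γ(M, V) :=
  AddMonoidHom.mk' (res M h) fun x y => res_add _ _ _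

lemma bijective_res_of_eq {X : Scheme.{u}} (M : X.Modules) {U V : X.Opens} (h : V ≤ U) (e : V = U) :
    Function.Bijective (resHom' M h) := by
  subst e
  rw [show ⇑(resHom' M h) = id from funext fun x => res_self x]
  exact Function.bijective_id

lemma isQuasicoherent_restrict {X X' : Scheme.{u}} (r : X' ⟶ X) [IsOpenImmersion r] (M : X.Modules)
    [M.IsQuasicoherent] : (M.restrict r).IsQuasicoherent :=
  QC70.isQuasicoherent_of_iso ((Scheme.Modules.restrictFunctorIsoPullback r).app M).symm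
    (QCPull72.isQuasicoherent_pullback r M)

section Rho

variable {X₂ S U T : Scheme.{u}} (f : X₂ ⟶ S) (a : U ⟶ T) (r : U ⟶ X₂) (j : T ⟶ S)
  [IsOpenImmersion r] [IsOpenImmersion j] (w : r ≫ f = a ≫ j)

include w in
lemma image_le_of_sq : r ''ᵁ ⊤ ≤ f ⁻¹ᵁ (j ''ᵁ ⊤) := by
  rintro _ ⟨x, -, rfl⟩
  exact ⟨a x, trivial, (congrArg (fun φ => φ x) (congrArg (fun ψ : U ⟶ S => ⇑ψ) w)).symm⟩

include w in
lemma appIso_sq (c : Γ(T, (⊤ : T.Opens))) :
    X₂.presheaf.map (homOfLE (image_le_of_sq f a r j w)).op (f.app (j ''ᵁ ⊤) ((j.appIso ⊤).inv c)) =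
      (r.appIso ⊤).inv (a.appLE ⊤ ⊤ le_top c) := by
  have e1 : (r.appIso ⊤).hom = r.appLE (r ''ᵁ ⊤) ⊤ (r.preimage_image_eq ⊤).ge := Scheme.Hom.appIso_hom' r ⊤
  apply (ConcreteCategory.bijective_of_isIso (r.appIso ⊤).hom).injective
  refine Eq.trans ?_ ((r.appIso ⊤).inv_hom_id_apply _).symm
  have h1 : (f.appLE (j ''ᵁ ⊤) (r ''ᵁ ⊤) (image_le_of_sq f a r j w) ≫
      r.appLE (r ''ᵁ ⊤) ⊤ (r.preimage_image_eq ⊤).ge) =
      j.appLE (j ''ᵁ ⊤) ⊤ (j.preimage_image_eq ⊤).ge ≫ a.appLE ⊤ ⊤ le_top := by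
    rw [Scheme.Hom.appLE_comp_appLE, Scheme.Hom.appLE_comp_appLE]
    congr 1
  have h2 := congr($h1 ((j.appIso ⊤).inv c))
  have h3 : j.appLE (j ''ᵁ ⊤) ⊤ (j.preimage_image_eq ⊤).ge ((j.appIso ⊤).inv c) = c := by
    rw [← Scheme.Hom.appIso_hom' j ⊤]
    exact (j.appIso ⊤).inv_hom_id_apply c
  rw [CommRingCat.comp_apply, CommRingCat.comp_apply, h3] at h2
  rw [e1]
  exact h2

end Rho

variable {Z X₁ X₂ S : Scheme.{u}} (p : Z ⟶ X₁) (q : Z ⟶ X₂) (f₁ : X₁ ⟶ S) (f₂ : X₂ ⟶ S)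

/-- `pr^* M ⊗ f₁^* G ≅ M ⊗ f₁^* G` for the identical projection. -/
def idBox (M : X₁.Modules) (G : S.Modules) :
    HTor49.box (𝟙 X₁) f₁ M G ≅ (DCoh.tensorBi.obj M).obj ((Scheme.Modules.pullback f₁).obj G) :=
  (DCoh.tensorBi.mapIso ((Scheme.Modules.pullbackId X₁).app M)).app _

lemma idBox_bx (M : X₁.Modules) (G : S.Modules) {W : X₁.Opens} {V : S.Opens} (e₁ : W ≤ (𝟙 X₁) ⁻¹ᵁ W)
    (e₂ : W ≤ f₁ ⁻¹ᵁ V) (x : Γ(M, W)) (y : Γ(G, V)) :
    (idBox f₁ M G).hom.app W (HTor49.bx M G e₁ e₂ x y) =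
      SecTwist.tmul M ((Scheme.Modules.pullback f₁).obj G) W x (unitSec f₁ G e₂ y) := by
  refine (tensorBi_left_tmul _ _ W (unitSec (𝟙 X₁) M e₁ x) (unitSec f₁ G e₂ y)).trans ?_
  refine congrArg (fun t => SecTwist.tmul M ((Scheme.Modules.pullback f₁).obj G) W t (unitSec f₁ G e₂ y)) ?_
  change ((Scheme.Modules.pullbackId X₁).hom.app M).app W (unitSec (𝟙 X₁) M e₁ x) = x
  rw [QCPull72.unitSec, QC70.app_res]
  refine (congrArg (QC70.res M e₁) ?_).trans (res_self x)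
  have h1 := unit_conjugateEquiv Adjunction.id (Scheme.Modules.pullbackPushforwardAdjunction (𝟙 X₁))
    (Scheme.Modules.pullbackId X₁).hom M
  rw [Scheme.Modules.conjugateEquiv_pullbackId_hom] at h1
  exact (congr(Scheme.Modules.Hom.app $h1 W x)).symm

set_option maxHeartbeats 2000000 in
/-- The comparison is bijective on affine opens over affine opens. -/
theorem cMod_app_bijective (hsq : IsPullback p q f₁ f₂) [QuasiCompact f₂] [IsSeparated f₂] (M : X₁.Modules)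
    [M.IsQuasicoherent] (N : X₂.Modules) {V : S.Opens} (hV : IsAffineOpen V) {W : X₁.Opens}
    (hW : IsAffineOpen W) (hWV : W ≤ f₁ ⁻¹ᵁ V)
    (hN : HTor49.Cls ((Scheme.Modules.restrictFunctor (f₂ ⁻¹ᵁ V).ι).obj N)) :
    Function.Bijective ((cMod p q f₁ f₂ hsq.w M N).app W) := by
  let U₂ := f₂ ⁻¹ᵁ V
  let Zw := p ⁻¹ᵁ W
  have eZ : Zw ≤ q ⁻¹ᵁ U₂ := fun z hz => by
    show (q ≫ f₂) z ∈ V
    rw [← hsq.w]
    exact hWV hz
  let A : Type u := Γ(S, V)
  let g₁ : (W : Scheme.{u}) ⟶ Spec (CommRingCat.of A) := f₁.resLE V W hWV ≫ hV.isoSpec.hom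
  let g₂ : (U₂ : Scheme.{u}) ⟶ Spec (CommRingCat.of A) := (f₂ ∣_ V) ≫ hV.isoSpec.hom
  let p' : (Zw : Scheme.{u}) ⟶ W := p ∣_ W
  let q' : (Zw : Scheme.{u}) ⟶ U₂ := q.resLE U₂ Zw eZ
  let jV : Spec (CommRingCat.of A) ⟶ S := hV.fromSpec
  have H₀ : IsPullback p' q' (f₁.resLE V W hWV) (f₂ ∣_ V) := by
    have h1 : IsPullback p' (Zw.ι ≫ q) (W.ι ≫ f₁) f₂ := (isPullback_morphismRestrict p W).paste_vert hsq
    rw [← Scheme.Hom.resLE_comp_ι f₁ hWV, ← Scheme.Hom.resLE_comp_ι q eZ] at h1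
    refine IsPullback.of_bot h1 ?_ (isPullback_morphismRestrict f₂ V)
    rw [← cancel_mono V.ι, Category.assoc, Category.assoc, Scheme.Hom.resLE_comp_ι, morphismRestrict_ι,
      morphismRestrict_ι_assoc, Scheme.Hom.resLE_comp_ι_assoc, hsq.w]
  have H : IsPullback p' q' g₁ g₂ :=
    H₀.of_iso (Iso.refl _) (Iso.refl _) (Iso.refl _) hV.isoSpec (by simp) (by simp) (by simp [g₁]) (by simp [g₂])
  have Hid : IsPullback (𝟙 (W : Scheme.{u})) g₁ g₁ (𝟙 _) := IsPullback.of_horiz_isIso ⟨by simp⟩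
  have w₂ : U₂.ι ≫ f₂ = g₂ ≫ jV := by
    simp only [g₂, jV, Category.assoc]
    exact (morphismRestrict_ι f₂ V).symm.trans (congrArg ((f₂ ∣_ V) ≫ ·) hV.isoSpec_hom_fromSpec.symm)
  have w₁ : g₁ ≫ jV = W.ι ≫ f₁ := by
    simp only [g₁, jV, Category.assoc]
    exact (congrArg (f₁.resLE V W hWV ≫ ·) hV.isoSpec_hom_fromSpec).trans (Scheme.Hom.resLE_comp_ι f₁ hWV)
  haveI : IsAffine (W : Scheme.{u}) := hW
  haveI : IsSeparated g₂ := inferInstanceAs (IsSeparated ((f₂ ∣_ V) ≫ hV.isoSpec.hom))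
  haveI : IsSeparated p' := MorphismProperty.of_isPullback H.flip ‹_›
  haveI : IsSeparated (p' ≫ g₁) := inferInstance
  haveI := HTor49.isSeparated_of_over g₂
  haveI := HTor49.isSeparated_of_over (p' ≫ g₁)
  let M' := M.restrict W.ι
  let N' := N.restrict U₂.ι
  let G := (Scheme.Modules.pushforward f₂).obj N
  let G' := G.restrict jV
  have hM' : HTor49.Cls M' :=
    .loc ⊤ (isAffineOpen_top _) (isQuasicoherent_restrict W.ι M) (HTor49.loc_top _)
  have hG' : HTor49.Cls G' := by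
    refine .loc ⊤ (isAffineOpen_top _) ?_ (HTor49.loc_top _)
    haveI : N'.IsQuasicoherent := hN.isQCoh
    haveI : (G.restrict V.ι).IsQuasicoherent :=
      QC70.isQuasicoherent_of_iso ((GSS45.RelExt.pushRestrictIso f₂ V).app N).symm
        (QCqs72.isQuasicoherent_pushforward (M := N') (f₂ ∣_ V))
    haveI := isQuasicoherent_restrict hV.isoSpec.inv (G.restrict V.ι)
    exact QC70.isQuasicoherent_of_iso ((Scheme.Modules.restrictFunctorComp hV.isoSpec.inv V.ι).app G).symm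
      (inferInstanceAs ((G.restrict V.ι).restrict hV.isoSpec.inv).IsQuasicoherent) |>
        fun h => QC70.isQuasicoherent_of_iso
          ((Scheme.Modules.restrictFunctorCongr hV.isoSpec_inv_ι).app G) h
  -- the two bijections from external products
  haveI i₁ := HTor49.isIso_gBox H hM' hN
  haveI i₂ := HTor49.isIso_gBox Hid hM' hG'
  have b₁ := ConcreteCategory.bijective_of_isIso (HTor49.gBox p' q' g₁ g₂ H.w M' N')
  have b₂ := ConcreteCategory.bijective_of_isIso (HTor49.gBox (𝟙 (W : Scheme.{u})) g₁ g₁ (𝟙 _) Hid.w M' G')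
  -- indices
  let W₀ : X₁.Opens := W.ι ''ᵁ ⊤
  have hW₀ : W₀ = W := W.ι_image_top
  let V₀ : S.Opens := jV ''ᵁ ⊤
  have hV₀ : V₀ = V := by
    show hV.fromSpec ''ᵁ ⊤ = V
    rw [Scheme.Hom.image_top_eq_opensRange, hV.opensRange_fromSpec]
  have hU : U₂.ι ''ᵁ ⊤ = f₂ ⁻¹ᵁ V₀ := by rw [U₂.ι_image_top, hV₀]
  have hZ : Zw.ι ''ᵁ ⊤ = p ⁻¹ᵁ W₀ := by rw [Zw.ι_image_top, hW₀]
  have eW : W₀ ≤ f₁ ⁻¹ᵁ V₀ := by rw [hW₀, hV₀]; exact hWV
  have eZW : p ⁻¹ᵁ W₀ ≤ q ⁻¹ᵁ (f₂ ⁻¹ᵁ V₀) := by rw [hW₀, hV₀]; exact eZ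
  -- the comparison of the second factors
  let ρ₀ : (HTor.globalSectionsA (𝟙 (Spec (CommRingCat.of A)))).obj G' →+ (HTor.globalSectionsA g₂).obj N' :=
    AddMonoidHom.mk' (fun y => rsec U₂.ι N ⊤ (res N hU.le ((G.restrictAppIso jV ⊤).hom y))) fun y y' => by
      refine (congrArg (fun z => rsec U₂.ι N ⊤ (res N hU.le z)) (map_add (G.restrictAppIso jV ⊤).hom.hom y y')).trans ?_
      exact (congrArg (rsec U₂.ι N ⊤) (res_add (M := N) hU.le _ _)).trans (map_add (N.restrictAppIso U₂.ι ⊤).inv.hom _ _)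
  let ρ : (HTor.globalSectionsA (𝟙 (Spec (CommRingCat.of A)))).obj G' →ₗ[A] (HTor.globalSectionsA g₂).obj N' :=
    { ρ₀ with
      map_smul' := fun c y => by
        change rsec U₂.ι N ⊤ (res N hU.le ((G.restrictAppIso jV ⊤).hom
          (show Γ(G', HTor49.topU (𝟙 _)) from c • y))) = _
        rw [HTor49.globalSectionsA_smul]
        refine Eq.trans ?_ (HTor49.globalSectionsA_smul g₂ N' c (ρ₀ y)).symm
        change res N hU.le (f₂.app V₀ ((jV.appIso ⊤).inv _) • _) = (U₂.ι.appIso ⊤).inv _ • _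
        rw [res_smul]
        refine congrArg (· • res N hU.le ((G.restrictAppIso jV ⊤).hom y)) ?_
        refine (appIso_sq f₂ g₂ U₂.ι jV w₂ _).trans (congrArg (U₂.ι.appIso ⊤).inv ?_)
        exact HTor49.appLE_sA (𝟙 _) g₂ (Category.comp_id g₂) le_top c }
  have hρ : Function.Bijective ρ := by
    have h1 := (ConcreteCategory.bijective_of_isIso (N.restrictAppIso U₂.ι ⊤).inv).comp
      ((bijective_res_of_eq N hU.le hU).comp (ConcreteCategory.bijective_of_isIso (G.restrictAppIso jV ⊤).hom))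
    exact h1
  have b₃ := b₁.comp (TensorProduct.congr (LinearEquiv.refl A ((HTor.globalSectionsA g₁).obj M'))
    (LinearEquiv.ofBijective ρ hρ)).bijective
  -- transports
  let rs := boxResIso (𝟙 X₁) f₁ (𝟙 (W : Scheme.{u})) g₁ W.ι W.ι jV (by simp) w₁ M G
  let rt := boxResIso p q p' q' Zw.ι W.ι U₂.ι (morphismRestrict_ι p W) (Scheme.Hom.resLE_comp_ι q eZ) M N
  let S₀ : ((HTor.globalSectionsA g₁).obj M' ⊗ (HTor.globalSectionsA (𝟙 _)).obj G' : ModuleCat.{u} A) →+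
      Γ((DCoh.tensorBi.obj M).obj ((Scheme.Modules.pullback f₁).obj G), W₀) :=
    ((idBox f₁ M G).hom.app W₀).hom.comp (((HTor49.box (𝟙 X₁) f₁ M G).restrictAppIso W.ι ⊤).hom.hom.comp
      ((rs.inv.app ⊤).hom.comp (HTor49.gBox (𝟙 (W : Scheme.{u})) g₁ g₁ (𝟙 _) Hid.w M' G').hom.toAddMonoidHom))
  let T₀ : Γ(HTor49.box p q M N, p ⁻¹ᵁ W₀) →+ Γ(HTor49.box p' q' M' N', (⊤ : (Zw : Scheme.{u}).Opens)) :=
    (rt.hom.app ⊤).hom.comp (((HTor49.box p q M N).restrictAppIso Zw.ι ⊤).inv.hom.comp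
      (resHom' (HTor49.box p q M N) hZ.le))
  have hS : Function.Bijective S₀ :=
    (ConcreteCategory.bijective_of_isIso ((idBox f₁ M G).hom.app W₀)).comp
      ((ConcreteCategory.bijective_of_isIso ((HTor49.box (𝟙 X₁) f₁ M G).restrictAppIso W.ι ⊤).hom).comp
        ((ConcreteCategory.bijective_of_isIso (rs.inv.app ⊤)).comp b₂))
  have hT : Function.Bijective T₀ :=
    (ConcreteCategory.bijective_of_isIso (rt.hom.app ⊤)).comp
      ((ConcreteCategory.bijective_of_isIso ((HTor49.box p q M N).restrictAppIso Zw.ι ⊤).inv).comp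
        (bijective_res_of_eq _ hZ.le hZ))
  let K := T₀.comp (((cMod p q f₁ f₂ hsq.w M N).app W₀).hom.comp S₀)
  have key : ∀ z, K z = (HTor49.gBox p' q' g₁ g₂ H.w M' N').hom
      (TensorProduct.congr (LinearEquiv.refl A ((HTor.globalSectionsA g₁).obj M'))
        (LinearEquiv.ofBijective ρ hρ) z) := by
    intro z
    induction z using TensorProduct.induction_on with
    | zero => exact (map_zero K).trans ((congrArg _ (LinearEquiv.map_zero _)).trans (HTor49.gBox p' q' g₁ g₂ H.w M' N').hom.map_zero).symm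
    | add z z' hz hz' =>
      exact (map_add K z z').trans ((congrArg₂ (· + ·) hz hz').trans
        (((congrArg _ (LinearEquiv.map_add _ z z')).trans ((HTor49.gBox p' q' g₁ g₂ H.w M' N').hom.map_add _ _)).symm))
    | tmul x y =>
      let x₀ : Γ(M, W₀) := (M.restrictAppIso W.ι ⊤).hom x
      let y₀ : Γ(N, f₂ ⁻¹ᵁ V₀) := (G.restrictAppIso jV ⊤).hom y
      have e₁ : W₀ ≤ (𝟙 X₁) ⁻¹ᵁ W₀ := le_rfl
      have h1 : (rs.inv.app ⊤) (HTor49.bx M' G' (HTor49.topU_le (𝟙 _) g₁) (HTor49.topU_le' (𝟙 _) g₁ g₁ (𝟙 _)) x y) =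
          rsec W.ι (HTor49.box (𝟙 X₁) f₁ M G) ⊤ (HTor49.bx M G e₁ eW x₀ y₀) := by
        refine Eq.trans (congrArg (rs.inv.app ⊤) (boxResIso_bx (𝟙 X₁) f₁ (𝟙 (W : Scheme.{u})) g₁ W.ι W.ι jV
          (by simp) w₁ M G e₁ eW (HTor49.topU_le (𝟙 _) g₁) (HTor49.topU_le' (𝟙 _) g₁ g₁ (𝟙 _)) x₀ y₀).symm) ?_
        exact Mum71.hom_inv_app rs ⊤ _
      have h2 : S₀ (x ⊗ₜ y) = SecTwist.tmul M ((Scheme.Modules.pullback f₁).obj G) W₀ x₀ (unitSec f₁ G eW y₀) := by
        refine (congrArg (fun t => (idBox f₁ M G).hom.app W₀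
          (((HTor49.box (𝟙 X₁) f₁ M G).restrictAppIso W.ι ⊤).hom t)) h1).trans ?_
        exact idBox_bx f₁ M G e₁ eW x₀ y₀
      show T₀ (((cMod p q f₁ f₂ hsq.w M N).app W₀) (S₀ (x ⊗ₜ y))) = _
      rw [h2]
      refine (congrArg T₀ (cMod_tmul p q f₁ f₂ hsq.w M N eW eZW x₀ y₀)).trans ?_
      have eA : Zw.ι ''ᵁ ⊤ ≤ p ⁻¹ᵁ W₀ := hZ.le
      have eB : Zw.ι ''ᵁ ⊤ ≤ q ⁻¹ᵁ (U₂.ι ''ᵁ ⊤) := by rw [hU]; exact eA.trans eZW
      refine (congrArg (fun t => rt.hom.app ⊤ (rsec Zw.ι (HTor49.box p q M N) ⊤ t))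
        ((HTor49.res_bx M N (le_refl (p ⁻¹ᵁ W₀)) eZW eA eB le_rfl hU.le eA x₀ y₀).trans
          (congrArg (fun t => HTor49.bx M N eA eB t (Cx47.res N hU.le y₀)) (Cx47.res_self M le_rfl x₀)))).trans ?_
      exact boxResIso_bx p q p' q' Zw.ι W.ι U₂.ι (morphismRestrict_ι p W) (Scheme.Hom.resLE_comp_ι q eZ) M N
        eA eB (HTor49.topU_le p' g₁) (HTor49.topU_le' p' q' g₁ g₂) x₀ (Cx47.res N hU.le y₀)
  have hK : Function.Bijective K := by
    rw [show (⇑K) = _ from funext key]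
    exact b₃
  have hc : Function.Bijective ((cMod p q f₁ f₂ hsq.w M N).app W₀) := by
    have := (Function.Bijective.of_comp_iff' hT _).1 (show Function.Bijective
      (⇑T₀ ∘ (⇑((cMod p q f₁ f₂ hsq.w M N).app W₀).hom ∘ ⇑S₀)) from hK)
    exact (Function.Bijective.of_comp_iff _ hS).1 this
  exact hW₀ ▸ hc

end Groth.Agent.DPF49
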