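import Groth.Agent.DPF49.Trans
import Groth.Agent.DPF49.FiveLemma
import Groth.Agent.QCohTens72.Main
import Groth.Agent.QExact41.Derived
import Groth.Agent.DCX42.DerAdj
import Groth.Agent.DCX42.KInjPush
import Groth.Agent.QCohPush72.Coprod
import Groth.Agent.QC70.ExtZero
import Groth.Agent.S11118
import Groth.Agent.S1000

/-!
Preparations for the local proof: extension by zero from an affine open, preservation of coproducts.
-/

set_option autoImplicit false
set_option backward.isDefEq.respectTransparency.types false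
set_option linter.style.haveILetI false

noncomputable section

universe u w w' v v' u' u''

open CategoryTheory CategoryTheory.Limits CategoryTheory.Pretriangulated AlgebraicGeometry
attribute [local instance] HasDerivedCategory.standard

namespace Groth.Agent.DPF49

/-- Derived functors of exact functors respect triangles. -/
theorem triLike_mapDerived {A : Type u'} [Category.{v} A] [Abelian A] [HasDerivedCategory.{w} A]
    {B : Type u''} [Category.{v'} B] [Abelian B] [HasDerivedCategory.{w'} B] (F : A ⥤ B) [F.Additive]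
    [PreservesFiniteLimits F] [PreservesFiniteColimits F] : QExact41.TriLike F.mapDerivedCategory :=
  fun T hT => ⟨_, F.mapDerivedCategory.map_distinguished T hT⟩

variable {U X Y : Scheme.{u}}

instance preservesFiniteLimits_extZero (j : U ⟶ X) [IsOpenImmersion j] :
    PreservesFiniteLimits (CxOX.extZero j) := by
  haveI : PreservesColimitsOfSize.{0, 0} (CxOX.extZero j) := (CxOX.extZeroAdj j).leftAdjoint_preservesColimits
  haveI := preservesBinaryBiproducts_of_preservesBinaryCoproducts (CxOX.extZero j)
  haveI : (CxOX.extZero j).PreservesHomology :=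
    (CxOX.extZero j).preservesHomology_of_preservesMonos_and_cokernels
  exact (CxOX.extZero j).preservesFiniteLimits_of_preservesHomology

instance preservesFiniteColimits_extZero (j : U ⟶ X) [IsOpenImmersion j] :
    PreservesFiniteColimits (CxOX.extZero j) :=
  haveI : PreservesColimitsOfSize.{0, 0} (CxOX.extZero j) := (CxOX.extZeroAdj j).leftAdjoint_preservesColimits
  inferInstance

/-- Extension by zero on derived categories. -/
abbrev ezD (j : U ⟶ X) [IsOpenImmersion j] : DCoh.D U ⥤ DCoh.D X :=
  (CxOX.extZero j).mapDerivedCategory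

/-- The adjunction between extension by zero and restriction. -/
def ezAdj (j : U ⟶ X) [IsOpenImmersion j] : ezD j ⊣ DCX42.resD j :=
  DCX42.derAdjExact (CxOX.extZeroAdj j)

/-- Restricting an extension by zero gives the object back. -/
theorem nonempty_ezD_resD (j : U ⟶ X) [IsOpenImmersion j] :
    Nonempty (ezD j ⋙ DCX42.resD j ≅ 𝟭 (DCoh.D U)) := by
  let e : CxOX.extZero j ⋙ Scheme.Modules.restrictFunctor j ≅ 𝟭 U.Modules :=
    (asIso (CxOX.extZeroAdj j).unit).symm
  let c : (CxOX.extZero j).mapHomologicalComplex (ComplexShape.up ℤ) ⋙ DCX42.resCx j ≅ 𝟭 _ :=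
    Functor.mapHomologicalComplexCompIso e _ ≪≫ Functor.mapHomologicalComplexIdIso _ _
  let k : DerivedCategory.Q ⋙ ezD j ⋙ DCX42.resD j ≅ DerivedCategory.Q :=
    (Functor.associator _ _ _).symm ≪≫
      Functor.isoWhiskerRight (CxOX.extZero j).mapDerivedCategoryFactors _ ≪≫ Functor.associator _ _ _ ≪≫
      Functor.isoWhiskerLeft _ (Scheme.Modules.restrictFunctor j).mapDerivedCategoryFactors ≪≫
      (Functor.associator _ _ _).symm ≪≫ Functor.isoWhiskerRight c _ ≪≫ Functor.leftUnitor _
  letI : Localization.Lifting DerivedCategory.Q (HomologicalComplex.quasiIso U.Modules (ComplexShape.up ℤ))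
      (DerivedCategory.Q (C := U.Modules)) (ezD j ⋙ DCX42.resD j) := ⟨k⟩
  letI : Localization.Lifting DerivedCategory.Q (HomologicalComplex.quasiIso U.Modules (ComplexShape.up ℤ))
      (DerivedCategory.Q (C := U.Modules)) (𝟭 (DCoh.D U)) := ⟨Functor.rightUnitor _⟩
  exact ⟨Localization.liftNatIso DerivedCategory.Q (HomologicalComplex.quasiIso U.Modules (ComplexShape.up ℤ))
    DerivedCategory.Q DerivedCategory.Q (ezD j ⋙ DCX42.resD j) (𝟭 (DCoh.D U)) (Iso.refl _)⟩

/-- The counit restricts to an isomorphism. -/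
theorem isIso_resD_counit (j : U ⟶ X) [IsOpenImmersion j] (E : DCoh.D X) :
    IsIso ((DCX42.resD j).map ((ezAdj j).counit.app E)) := by
  obtain ⟨e⟩ := nonempty_ezD_resD j
  haveI : IsIso (ezAdj j).unit := Adjunction.isIso_unit_of_iso (ezAdj j) e
  exact IsIso.of_isIso_fac_left ((ezAdj j).right_triangle_components E)

section Colim

variable {C D E : Type*} [Category C] [Category D] [Category E] {I : Type v}

/-- Coproducts through a composite. -/
lemma preservesColimit_comp (Z : I → C) (F : C ⥤ D) (G : D ⥤ E) (h₁ : PreservesColimit (Discrete.functor Z) F)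
    (h₂ : PreservesColimit (Discrete.functor fun i => F.obj (Z i)) G) :
    PreservesColimit (Discrete.functor Z) (F ⋙ G) := by
  haveI : PreservesColimit (Discrete.functor Z ⋙ F) G :=
    preservesColimit_of_iso_diagram G
      (Discrete.natIso fun i => Iso.refl _ : Discrete.functor (fun i => F.obj (Z i)) ≅ Discrete.functor Z ⋙ F)
  exact Limits.comp_preservesColimit F G

end Colim

/-- The derived tensor product preserves coproducts. -/
theorem preservesColimit_LTensorCx (L : CochainComplex X.Modules ℤ) [DCoh.HasLTensorCx L] {I : Type u}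
    (Z : I → DCoh.D X) : PreservesColimit (Discrete.functor Z) (DCoh.LTensorCx L) := by
  haveI := QCohPush72.hasCoproduct_D Z
  haveI := QCohPush72.hasCoproduct_D fun i => (DCoh.LTensorCx L).obj (Z i)
  haveI : IsIso (sigmaComparison (DCoh.LTensorCx L) Z) := S11118.result X L Z
  exact PreservesCoproduct.of_iso_comparison (DCoh.LTensorCx L) Z

/-- `Lf^*` preserves coproducts. -/
theorem preservesColimit_Lpull (f : X ⟶ Y) [DCoh.HasLpull f] {I : Type u} (Z : I → DCoh.D Y) :
    PreservesColimit (Discrete.functor Z) (DCoh.Lpull f) := by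
  haveI := DCX42.hasRpush f
  haveI := (DCX42.LpullRpushAdj f).leftAdjoint_preservesColimits (D := DCoh.D X)
  infer_instance

/-- Restriction preserves coproducts. -/
theorem preservesColimit_resD (j : U ⟶ X) [IsOpenImmersion j] {I : Type u} (Z : I → DCoh.D X) :
    PreservesColimit (Discrete.functor Z) (DCX42.resD j) := by
  haveI := DCK91.hasLpull j
  obtain ⟨e⟩ := DCX42.nonempty_Lpull_iso_resD j
  haveI := preservesColimit_Lpull j Z
  exact preservesColimit_of_natIso (Discrete.functor Z) e

/-- `Rf_*` preserves coproducts of objects with quasi-coherent cohomology. -/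
theorem preservesColimit_Rpush (f : X ⟶ Y) [QuasiCompact f] [QuasiSeparated f] [DCoh.HasRpush f] {I : Type u}
    (Z : I → DCoh.D X) (hZ : ∀ i, DCoh.IsQCohD (Z i)) : PreservesColimit (Discrete.functor Z) (DCoh.Rpush f) := by
  haveI := QCohPush72.hasCoproduct_D Z
  haveI := QCohPush72.hasCoproduct_D fun i => (DCoh.Rpush f).obj (Z i)
  haveI : IsIso (sigmaComparison (DCoh.Rpush f) Z) := S1000.result f Z hZ
  exact PreservesCoproduct.of_iso_comparison (DCoh.Rpush f) Z

/-- Extension by zero preserves coproducts. -/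
theorem preservesColimit_ezD (j : U ⟶ X) [IsOpenImmersion j] {I : Type u} (Z : I → DCoh.D U) :
    PreservesColimit (Discrete.functor Z) (ezD j) := by
  haveI := (ezAdj j).leftAdjoint_preservesColimits (D := DCoh.D X)
  infer_instance

/-- `M ↦ M~` preserves coproducts in the derived category. -/
theorem preservesColimit_tildeD (R : CommRingCat.{u}) [PreservesFiniteLimits (tilde.functor R)] {I : Type u}
    (Z : I → Dual.D R) :
    PreservesColimit (Discrete.functor Z) (tilde.functor R).mapDerivedCategory := by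
  choose W hW using fun i => DR39.exists_complex_iso (Z i)
  suffices h : PreservesColimit (Discrete.functor fun i => (DR39.QA R).obj (W i))
      (tilde.functor R).mapDerivedCategory from
    preservesColimit_of_iso_diagram _ (Discrete.natIso fun i => (hW i.as).some :
      (Discrete.functor fun i => (DR39.QA R).obj (W i)) ≅ Discrete.functor Z)
  obtain ⟨hl⟩ := DR39.isColimit_Q (coproductIsCoproduct W)
  let T := (tilde.functor R).mapHomologicalComplex (ComplexShape.up ℤ)
  haveI : PreservesColimitsOfSize.{u, u} (tilde.functor R) := (tilde.adjunction (R := R)).leftAdjoint_preservesColimits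
  haveI : PreservesColimitsOfShape (Discrete I) T := inferInstance
  obtain ⟨hd⟩ := QCohPush72.nonempty_isColimit_Q_cofan (fun i => T.obj (W i)) _
    (isColimitCofanMkObjOfIsColimit T W _ (coproductIsCoproduct W))
  refine preservesColimit_of_preserves_colimit_cocone hl ((isColimitMapCoconeCofanMkEquiv _ _ _).symm ?_)
  let e := (tilde.functor R).mapDerivedCategoryFactors
  have he : ∀ i, (e.app (W i)).hom ≫ DerivedCategory.Q.map (T.map (Sigma.ι W i)) =
      (tilde.functor R).mapDerivedCategory.map (DerivedCategory.Q.map (Sigma.ι W i)) ≫ (e.app (∐ W)).hom :=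
    fun i => (e.hom.naturality (Sigma.ι W i)).symm
  refine Cofan.IsColimit.mk _ (fun s => (e.app (∐ W)).hom ≫
      Cofan.IsColimit.desc hd fun i => (e.app (W i)).inv ≫ s.inj i) (fun s i => ?_) (fun s m hm => ?_)
  · refine (Category.assoc _ _ _).symm.trans ((congrArg (· ≫ _) (he i).symm).trans ((Category.assoc _ _ _).trans ?_))
    exact (congrArg ((e.app (W i)).hom ≫ ·) (Cofan.IsColimit.fac hd _ i)).trans (Iso.hom_inv_id_assoc _ _)
  · rw [← Iso.inv_comp_eq]
    refine Cofan.IsColimit.hom_ext hd _ _ fun i => ?_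
    rw [Cofan.IsColimit.fac, ← cancel_epi (e.app (W i)).hom, Iso.hom_inv_id_assoc, ← hm i]
    refine (Category.assoc _ _ _).symm.trans ((congrArg (· ≫ _) (he i)).trans ((Category.assoc _ _ _).trans ?_))
    exact congrArg (_ ≫ ·) (Iso.hom_inv_id_assoc _ _)

/-- The derived tensor product depends only on the class of the fixed complex. -/
theorem exists_ltensor_kflat (L : CochainComplex X.Modules ℤ) [DCoh.HasLTensorCx L] :
    ∃ (P : CochainComplex X.Modules ℤ) (hP : DCoh.IsKFlat P),
      Nonempty (DerivedCategory.Q.obj P ≅ DerivedCategory.Q.obj L) ∧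
      ∀ K : DCoh.D X, Nonempty ((DCoh.LTensorCx L).obj K ≅
        (haveI := PerfFib24.hasLTensorCx P hP; DCoh.LTensorCx P).obj K) := by
  obtain ⟨P, c, ⟨hP, -⟩, hc⟩ := DCK91.res₀ X L
  have hP' : DCoh.IsKFlat P := hP
  refine ⟨P, hP', ⟨@asIso _ _ _ _ (DerivedCategory.Q.map c) hc⟩, fun K => ?_⟩
  haveI := PerfFib24.hasLTensorCx P hP'
  haveI : ModSite.HasLTensorCx (O := X.sheaf) L := (inferInstance : DCoh.HasLTensorCx L)
  obtain ⟨e⟩ := @FlatModel41.nonempty_LTensorCx_iso _ _ _ X.sheaf L P (inferInstance : DCoh.HasLTensorCx L) hP c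
    ((DerivedCategory.isIso_Q_map_iff_quasiIso X.Modules c).1 hc)
  obtain ⟨a⟩ := DCK91.nonempty_ltcIso P hP' (DerivedCategory.Q.objPreimage K)
  exact ⟨(DCoh.LTensorCx L).mapIso (DerivedCategory.Q.objObjPreimageIso K).symm ≪≫
    (e.app (DerivedCategory.Q.objPreimage K)).symm ≪≫ a.symm ≪≫
    (DCoh.LTensorCx P).mapIso (DerivedCategory.Q.objObjPreimageIso K)⟩

/-- Restriction of a derived tensor product, on objects. -/
theorem exists_resD_LTensor (j : U ⟶ X) [IsOpenImmersion j] (L : CochainComplex X.Modules ℤ) [DCoh.HasLTensorCx L] :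
    ∃ (F : CochainComplex U.Modules ℤ) (hF : DCoh.IsKFlat F),
      Nonempty (DerivedCategory.Q.obj F ≅ (DCX42.resD j).obj (DerivedCategory.Q.obj L)) ∧
      ∀ K : DCoh.D X, Nonempty ((DCX42.resD j).obj ((DCoh.LTensorCx L).obj K) ≅
        (haveI := PerfFib24.hasLTensorCx F hF; DCoh.LTensorCx F).obj ((DCX42.resD j).obj K)) := by
  obtain ⟨P, hP, ⟨eP⟩, hK⟩ := exists_ltensor_kflat L
  haveI := PerfFib24.hasLTensorCx P hP
  let F := (PerfFib24.pullCx j).obj P
  have hF : DCoh.IsKFlat F := DCK91.isKFlat_pullback j P hP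
  haveI := PerfFib24.hasLTensorCx F hF
  haveI := DCK91.hasLpull j
  obtain ⟨r⟩ := DCX42.nonempty_Lpull_iso_resD j
  obtain ⟨l⟩ := DCK91.nonempty_lpullIso j P hP
  refine ⟨F, hF, ⟨l.symm ≪≫ r.app _ ≪≫ (DCX42.resD j).mapIso eP⟩, fun K => ?_⟩
  obtain ⟨k⟩ := hK K
  let E := DerivedCategory.Q.objPreimage ((DCX42.resD j).obj K)
  let eE := DerivedCategory.Q.objObjPreimageIso ((DCX42.resD j).obj K)
  obtain ⟨a⟩ := PerfFib24.nonempty_res_LTensor j P hP K E eE.symm
  obtain ⟨b⟩ := DCK91.nonempty_ltcIso F hF E
  exact ⟨(DCX42.resD j).mapIso k ≪≫ a ≪≫ b.symm ≪≫ (DCoh.LTensorCx F).mapIso eE⟩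

end Groth.Agent.DPF49
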