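import Groth.Agent.DPF49.LocalMain
import Groth.Agent.DCX42.Perfect

/-!
The projection transformation is invertible on perfect objects, for any morphism of schemes.
-/

set_option autoImplicit false
set_option backward.isDefEq.respectTransparency.types false
set_option linter.style.haveILetI false

noncomputable section

universe u

open CategoryTheory CategoryTheory.Limits CategoryTheory.Pretriangulated AlgebraicGeometry
attribute [local instance] HasDerivedCategory.standard

namespace Groth.Agent.DPF49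

/-- Transformations of additive functors invertible on finitely many objects are invertible on their sum. -/
lemma isIso_app_sigma {C : Type*} [Category C] [Preadditive C] [HasFiniteBiproducts C] {D : Type*} [Category D]
    [Preadditive D] {Φ₁ Φ₂ : C ⥤ D} [Φ₁.Additive] [Φ₂.Additive] (τ : Φ₁ ⟶ Φ₂) {J : Type} [Finite J]
    (M : J → C) [HasCoproduct M] (h : ∀ j, IsIso (τ.app (M j))) : IsIso (τ.app (∐ M)) := by
  haveI := preservesCoproductsOfShape_of_preservesBiproductsOfShape (J := J) Φ₁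
  haveI := preservesCoproductsOfShape_of_preservesBiproductsOfShape (J := J) Φ₂
  let hd₁ := isColimitCofanMkObjOfIsColimit Φ₁ M _ (coproductIsCoproduct M)
  let hd₂ := isColimitCofanMkObjOfIsColimit Φ₂ M _ (coproductIsCoproduct M)
  refine ⟨Cofan.IsColimit.desc hd₂ fun j => inv (τ.app (M j)) ≫ Φ₁.map (Sigma.ι M j), ?_, ?_⟩
  · refine Cofan.IsColimit.hom_ext hd₁ _ _ fun j => ?_
    change Φ₁.map (Sigma.ι M j) ≫ _ = Φ₁.map (Sigma.ι M j) ≫ _
    rw [← Category.assoc, τ.naturality, Category.assoc, Category.comp_id]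
    exact (congrArg (τ.app _ ≫ ·) (Cofan.IsColimit.fac hd₂ _ j)).trans (IsIso.hom_inv_id_assoc _ _)
  · refine Cofan.IsColimit.hom_ext hd₂ _ _ fun j => ?_
    rw [← Category.assoc, Cofan.IsColimit.fac, Category.assoc, τ.naturality, IsIso.inv_hom_id_assoc]
    exact (Category.comp_id _).symm

variable {X Y : Scheme.{u}} (f : X ⟶ Y) (I : CochainComplex X.Modules ℤ)
  [DCoh.HasLpull f] [DCoh.HasLTensorCx I] [DCoh.HasLTensorCx ((pC f).obj I)] [DCoh.HasRpush f]

/-- Extensions by zero of termwise free strictly perfect complexes. -/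
theorem isIso_res_projTrans_free (V : Y.Opens) (hI : I.IsKInjective) (τ : G₁ f I ⟶ G₂ f I)
    (hτ : ∀ (P : CochainComplex Y.Modules ℤ),
      DCK91.KFFh Y ((HomotopyCategory.quotient Y.Modules (ComplexShape.up ℤ)).obj P) →
        τ.app (DerivedCategory.Q.obj P) ≫ (fromG₂ f I).app P = (fromG₁ f I).app P)
    (E : CochainComplex (V : Scheme.{u}).Modules ℤ) (hE : DCoh.IsStrictlyPerfect E) (hE' : DCX42.IsTermFree E) :
    IsIso ((res V).map (τ.app ((ezD V.ι).obj (DerivedCategory.Q.obj E)))) := by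
  have hr : QExact41.TriLike (res V) := triLike_mapDerived _
  have h₁ : QExact41.TriLike (ezD V.ι ⋙ G₁ f I ⋙ res V) :=
    (triLike_mapDerived _).comp ((QExact41.triLike_LTensorCx _).comp hr)
  have h₂ : QExact41.TriLike (ezD V.ι ⋙ G₂ f I ⋙ res V) :=
    (triLike_mapDerived _).comp ((((QExact41.triLike_Lpull f).comp (QExact41.triLike_LTensorCx I)).comp
      (QExact41.triLike_Rpush f)).comp hr)
  haveI := h₁.additive
  haveI := h₂.additive
  let σ : ezD V.ι ⋙ G₁ f I ⋙ res V ⟶ ezD V.ι ⋙ G₂ f I ⋙ res V :=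
    Functor.whiskerLeft (ezD V.ι) (Functor.whiskerRight τ (res V))
  let P : ObjectProperty (DCoh.D (V : Scheme.{u})) := fun N => ∀ n : ℤ, IsIso (σ.app (N⟦n⟧))
  haveI : P.IsClosedUnderIsomorphisms := ⟨fun e hN n =>
    (NatTrans.isIso_app_iff_of_iso σ ((shiftFunctor (DCoh.D (V : Scheme.{u})) n).mapIso e)).1 (hN n)⟩
  have hshift : ∀ (N : DCoh.D (V : Scheme.{u})) (m : ℤ), P N → P (N⟦m⟧) := fun N m hN n =>
    (NatTrans.isIso_app_iff_of_iso σ ((shiftFunctorAdd' _ m n _ rfl).app N)).1 (hN (m + n))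
  have hzero : ∀ Z, IsZero Z → P Z := fun Z hZ n =>
    ⟨0, (h₁.isZero_obj ((shiftFunctor _ n).map_isZero hZ)).eq_of_src _ _,
      (h₂.isZero_obj ((shiftFunctor _ n).map_isZero hZ)).eq_of_src _ _⟩
  have hthird : ∀ T ∈ distTriang (DCoh.D (V : Scheme.{u})), P (Triangle.obj₁ T) → P (Triangle.obj₂ T) →
      P (Triangle.obj₃ T) := fun T hT p₁ p₂ n =>
    isIso_five h₁ h₂ σ _ (Triangle.shift_distinguished T hT n) (p₁ n) (p₂ n)
      ((NatTrans.isIso_app_iff_of_iso σ ((shiftFunctorAdd' _ n 1 _ rfl).app T.obj₁)).1 (p₁ (n + 1)))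
      ((NatTrans.isIso_app_iff_of_iso σ ((shiftFunctorAdd' _ n 1 _ rfl).app T.obj₂)).1 (p₂ (n + 1)))
  have hext : ∀ T ∈ distTriang (DCoh.D (V : Scheme.{u})), P (Triangle.obj₁ T) → P (Triangle.obj₃ T) →
      P (Triangle.obj₂ T) := fun T hT p₁ p₃ =>
    hthird _ (inv_rot_of_distTriang _ hT) (hshift _ (-1) p₃) p₁
  have hfree : ∀ (m : ℕ) (i : ℤ),
      IsIso (σ.app ((DerivedCategory.singleFunctor (V : Scheme.{u}).Modules i).obj (FlatMod.freeMod (V : Scheme.{u}) m))) := by
    intro m i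
    let S : (V : Scheme.{u}).Modules ⥤ DCoh.D (V : Scheme.{u}) := DerivedCategory.singleFunctor _ i
    have h0 : IsIso (σ.app (S.obj (Coh.structureModule (V : Scheme.{u})))) := by
      let SY := (DerivedCategory.singleFunctor Y.Modules i).obj (Coh.structureModule Y)
      let eK : S.obj (Coh.structureModule (V : Scheme.{u})) ≅ (res V).obj SY :=
        S.mapIso (Scheme.Modules.restrictUnitIso V.ι).symm ≪≫
          (((Scheme.Modules.restrictFunctor V.ι).mapDerivedCategorySingleFunctor i).app (Coh.structureModule Y)).symm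
      let d : (ezD V.ι).obj (S.obj (Coh.structureModule (V : Scheme.{u}))) ⟶ SY :=
        (ezD V.ι).map eK.hom ≫ (ezAdj V.ι).counit.app SY
      have hd : IsIso ((res V).map d) := by
        haveI := isIso_resD_counit V.ι SY
        rw [Functor.map_comp]
        infer_instance
      haveI := isIso_projTrans_unit f I hI τ hτ i
      exact (isIso_res_app_iff f I τ d hd).2 inferInstance
    exact isIso_app_sigma (Φ₁ := S ⋙ ezD V.ι ⋙ G₁ f I ⋙ res V) (Φ₂ := S ⋙ ezD V.ι ⋙ G₂ f I ⋙ res V)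
      (Functor.whiskerLeft S σ) (fun _ : Fin m => Coh.structureModule (V : Scheme.{u})) fun _ => h0
  obtain ⟨⟨a, b, hab⟩, -⟩ := hE
  have := PerfFib24.prop_of_terms P hzero hext (b + 1 - a).toNat a E (fun i hi => hab i (by omega)) fun i => by
    obtain ⟨m, ⟨e⟩⟩ := hE' i
    refine P.prop_of_iso (DerivedCategory.Q.mapIso ((HomologicalComplex.single _ _ i).mapIso e.symm)) fun n => ?_
    refine (NatTrans.isIso_app_iff_of_iso σ ?_).1 (hfree m (i - n))
    exact (((DerivedCategory.singleFunctors (V : Scheme.{u}).Modules).shiftIso n (i - n) i (by omega)).app _).symm ≪≫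
      (shiftFunctor _ n).mapIso ((DerivedCategory.singleFunctorIsoCompQ (V : Scheme.{u}).Modules i).app _)
  exact (NatTrans.isIso_app_iff_of_iso σ ((shiftFunctorZero _ ℤ).app _)).1 (this 0)

/-- **The projection transformation is invertible on perfect objects.** -/
theorem isIso_projTrans_of_perfect (hI : I.IsKInjective) (τ : G₁ f I ⟶ G₂ f I)
    (hτ : ∀ (P : CochainComplex Y.Modules ℤ),
      DCK91.KFFh Y ((HomotopyCategory.quotient Y.Modules (ComplexShape.up ℤ)).obj P) →
        τ.app (DerivedCategory.Q.obj P) ≫ (fromG₂ f I).app P = (fromG₁ f I).app P)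
    {K : DCoh.D Y} (hK : DCoh.IsPerfect K) : IsIso (τ.app K) := by
  rw [DerivedCategory.isIso_iff]
  intro j
  refine Omega57.isIso_of_restrict _ fun y => ?_
  obtain ⟨V, hy, E, hE, ⟨eE⟩⟩ := (DCX42.isPerfect_iff K).1 hK y
  obtain ⟨W, hW, hfree⟩ := DCX42.exists_termFree hE ⟨y, hy⟩
  let g : (W : Scheme.{u}) ⟶ Y := W.ι ≫ V.ι
  obtain ⟨e, he, heg⟩ := DCX42.exists_opens_iso g
  refine ⟨g.opensRange, g.opensRange.ι, inferInstance, ⟨⟨y, ⟨⟨⟨y, hy⟩, hW⟩, rfl⟩⟩, rfl⟩, ?_⟩
  let E' := (DCX42.resCx e).obj ((DCX42.resCx W.ι).obj E)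
  let eK : DerivedCategory.Q.obj E' ≅ (res g.opensRange).obj K :=
    (DCX42.resQ e _).symm ≪≫ (DCX42.resD e).mapIso ((DCX42.resQ W.ι E).symm ≪≫ (DCX42.resD W.ι).mapIso eE.symm ≪≫
      (DCX42.resDComp W.ι V.ι).app K) ≪≫ (DCX42.resDComp e g).app K ≪≫ (DCX42.resDCongr heg).app K
  let d : (ezD g.opensRange.ι).obj (DerivedCategory.Q.obj E') ⟶ K :=
    (ezD g.opensRange.ι).map eK.hom ≫ (ezAdj g.opensRange.ι).counit.app K
  have hd : IsIso ((res g.opensRange).map d) := by
    haveI := isIso_resD_counit g.opensRange.ι K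
    rw [Functor.map_comp]
    infer_instance
  have h : IsIso ((res g.opensRange).map (τ.app K)) :=
    (isIso_res_app_iff f I τ d hd).1 (isIso_res_projTrans_free f I g.opensRange hI τ hτ E'
      (DCX42.isStrictlyPerfect_restrict (DCX42.isStrictlyPerfect_restrict hE W.ι) e) (hfree.restrict e))
  exact (NatIso.isIso_map_iff (Mod48.homologyMapDerivedIso (Scheme.Modules.restrictFunctor g.opensRange.ι) j) (τ.app K)).1
    (inferInstanceAs (IsIso ((DerivedCategory.homologyFunctor _ j).map ((res g.opensRange).map (τ.app K)))))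

end Groth.Agent.DPF49
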