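import Groth.Agent.DCK91.LpullTensor
import Groth.Agent.HTor49.MapTot2
import Groth.Agent.GSS45.ClosedHom
import Groth.Agent.QCGroth72.PushColim
import Groth.Agent.DCX42.MVTri
import Groth.Prelude.Def_DCoh4

/-!
The projection map `f_* M ⊗ N ⟶ f_* (M ⊗ f^* N)` for modules and complexes of modules.
-/

set_option autoImplicit false
set_option backward.isDefEq.respectTransparency false
set_option linter.style.haveILetI false

noncomputable section

universe u

open CategoryTheory CategoryTheory.Limits AlgebraicGeometry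
attribute [local instance] HasDerivedCategory.standard

namespace Groth.Agent.DPF49

variable {X Y : Scheme.{u}} (f : X ⟶ Y)

local notation "p" => Scheme.Modules.pushforward f
local notation "q" => Scheme.Modules.pullback f
local notation "adj" => Scheme.Modules.pullbackPushforwardAdjunction f

/-- The transpose of the projection map. -/
def projTr (M : X.Modules) (N : Y.Modules) :
    (q).obj ((DCoh.tensorBi.obj ((p).obj M)).obj N) ⟶ (DCoh.tensorBi.obj M).obj ((q).obj N) :=
  (DCK91.pullTensBi f ((p).obj M) N).inv ≫ (DCoh.tensorBi.map ((adj).counit.app M)).app ((q).obj N)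

/-- The projection map. -/
def projHom (M : X.Modules) (N : Y.Modules) :
    (DCoh.tensorBi.obj ((p).obj M)).obj N ⟶ (p).obj ((DCoh.tensorBi.obj M).obj ((q).obj N)) :=
  (adj).homEquiv _ _ (projTr f M N)

lemma projTr_left {M M' : X.Modules} (g : M ⟶ M') (N : Y.Modules) :
    (q).map ((DCoh.tensorBi.map ((p).map g)).app N) ≫ projTr f M' N =
      projTr f M N ≫ (DCoh.tensorBi.map g).app ((q).obj N) := by
  have h1 : (q).map ((DCoh.tensorBi.map ((p).map g)).app N) ≫ (DCK91.pullTensBi f ((p).obj M') N).inv =
      (DCK91.pullTensBi f ((p).obj M) N).inv ≫ (DCoh.tensorBi.map ((q).map ((p).map g))).app ((q).obj N) := by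
    rw [Iso.comp_inv_eq, Category.assoc, DCK91.pullTens_left, Iso.inv_hom_id_assoc]
  have h2 : (DCoh.tensorBi.map ((q).map ((p).map g))).app ((q).obj N) ≫
        (DCoh.tensorBi.map ((adj).counit.app M')).app ((q).obj N) =
      (DCoh.tensorBi.map ((adj).counit.app M)).app ((q).obj N) ≫ (DCoh.tensorBi.map g).app ((q).obj N) := by
    rw [← NatTrans.comp_app, ← NatTrans.comp_app, ← Functor.map_comp, ← Functor.map_comp]
    exact congrArg (fun φ => (DCoh.tensorBi.map φ).app _) ((adj).counit.naturality g)
  rw [projTr, projTr, reassoc_of% h1, Category.assoc, h2]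

lemma projTr_right (M : X.Modules) {N N' : Y.Modules} (g : N ⟶ N') :
    (q).map ((DCoh.tensorBi.obj ((p).obj M)).map g) ≫ projTr f M N' =
      projTr f M N ≫ (DCoh.tensorBi.obj M).map ((q).map g) := by
  have h1 : (q).map ((DCoh.tensorBi.obj ((p).obj M)).map g) ≫ (DCK91.pullTensBi f ((p).obj M) N').inv =
      (DCK91.pullTensBi f ((p).obj M) N).inv ≫ (DCoh.tensorBi.obj ((q).obj ((p).obj M))).map ((q).map g) := by
    rw [Iso.comp_inv_eq, Category.assoc, DCK91.pullTens_right, Iso.inv_hom_id_assoc]
  rw [projTr, projTr, reassoc_of% h1, Category.assoc]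
  exact congrArg ((DCK91.pullTensBi f ((p).obj M) N).inv ≫ ·)
    ((DCoh.tensorBi.map ((adj).counit.app M)).naturality ((q).map g))

lemma projHom_left {M M' : X.Modules} (g : M ⟶ M') (N : Y.Modules) :
    (DCoh.tensorBi.map ((p).map g)).app N ≫ projHom f M' N =
      projHom f M N ≫ (p).map ((DCoh.tensorBi.map g).app ((q).obj N)) :=
  (((adj).homEquiv_naturality_left _ _).symm.trans (congrArg ((adj).homEquiv _ _) (projTr_left f g N))).trans
    ((adj).homEquiv_naturality_right _ _)

lemma projHom_right (M : X.Modules) {N N' : Y.Modules} (g : N ⟶ N') :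
    (DCoh.tensorBi.obj ((p).obj M)).map g ≫ projHom f M N' =
      projHom f M N ≫ (p).map ((DCoh.tensorBi.obj M).map ((q).map g)) :=
  (((adj).homEquiv_naturality_left _ _).symm.trans (congrArg ((adj).homEquiv _ _) (projTr_right f M g))).trans
    ((adj).homEquiv_naturality_right _ _)

/-- For a closed immersion the projection map is invertible. -/
theorem isIso_projHom [IsClosedImmersion f] (M : X.Modules) (N : Y.Modules) : IsIso (projHom f M N) := by
  haveI := GSS45.ClosedHom.full_pushforward f
  haveI := QC70.faithful_pushforward f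
  let e : (Scheme.Modules.pushforward f).obj _ ≅ (DCoh.tensorBi.obj ((p).obj M)).obj N :=
    GSS45.Descend.descIso (GSS45.ClosedHom.isKilled_tens f M N) ≪≫
      ((Mod48.tensSymm (O := Y.sheaf) ((p).obj M)).app N).symm
  haveI : IsIso ((adj).unit.app ((DCoh.tensorBi.obj ((p).obj M)).obj N)) :=
    (adj).isIso_unit_app_of_iso e.symm
  haveI : IsIso ((adj).counit.app M) := inferInstance
  rw [projHom, Adjunction.homEquiv_unit, projTr]
  infer_instance

section Cx

/-- The projection map on total complexes. -/
def projCx (K : CochainComplex X.Modules ℤ) (L : CochainComplex Y.Modules ℤ) :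
    (DCoh.tensorCx.obj (((p).mapHomologicalComplex (ComplexShape.up ℤ)).obj K)).obj
        (((𝟭 Y.Modules).mapHomologicalComplex (ComplexShape.up ℤ)).obj L) ⟶
      ((p).mapHomologicalComplex (ComplexShape.up ℤ)).obj
        ((DCoh.tensorCx.obj (((𝟭 X.Modules).mapHomologicalComplex (ComplexShape.up ℤ)).obj K)).obj
          (((q).mapHomologicalComplex (ComplexShape.up ℤ)).obj L)) :=
  HTor49.totCmp (DCoh.tensorBi (X := X)) (DCoh.tensorBi (X := Y)) (𝟭 X.Modules) (q) (p) (𝟭 Y.Modules) (p)
    (projHom f) (fun g N => projHom_left f g N) (fun M _ _ g => projHom_right f M g) K L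

/-- The projection map of complexes is invertible when it is so for modules and `f_*` preserves coproducts. -/
theorem isIso_projCx (hiso : ∀ M N, IsIso (projHom f M N)) [∀ J : Type, PreservesColimitsOfShape (Discrete J) (p)]
    (K : CochainComplex X.Modules ℤ) (L : CochainComplex Y.Modules ℤ) : IsIso (projCx f K L) := by
  haveI : ∀ n, IsIso ((projCx f K L).f n) := fun n => by
    let K' := ((𝟭 X.Modules).mapHomologicalComplex (ComplexShape.up ℤ)).obj K
    let L' := ((q).mapHomologicalComplex (ComplexShape.up ℤ)).obj L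
    let π := ComplexShape.π (ComplexShape.up ℤ) (ComplexShape.up ℤ) (ComplexShape.up ℤ)
    have hc := isColimitCofanMkObjOfIsColimit (p) (fun i : (π ⁻¹' {n} : Set (ℤ × ℤ)) =>
        (DCoh.tensorBi.obj (K.X i.1.1)).obj ((q).obj (L.X i.1.2)))
      (fun i => HomologicalComplex.ιMapBifunctor K' L' (DCoh.tensorBi (X := X)) (ComplexShape.up ℤ) i.1.1 i.1.2 n i.2)
      (((((DCoh.tensorBi (X := X)).mapBifunctorHomologicalComplex (ComplexShape.up ℤ) (ComplexShape.up ℤ)).obj
        K').obj L').toGradedObject.isColimitCofanMapObj π n)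
    haveI := hiso
    refine ⟨Cofan.IsColimit.desc hc fun i => inv (projHom f (K.X i.1.1) (L.X i.1.2)) ≫
      HomologicalComplex.ιMapBifunctor (((p).mapHomologicalComplex (ComplexShape.up ℤ)).obj K)
        (((𝟭 Y.Modules).mapHomologicalComplex (ComplexShape.up ℤ)).obj L) (DCoh.tensorBi (X := Y))
        (ComplexShape.up ℤ) i.1.1 i.1.2 n i.2, ?_, ?_⟩
    · apply HomologicalComplex.mapBifunctor.hom_ext
      intro i j h
      rw [← Category.assoc]
      change (_ ≫ HTor49.totCmpApp _ _ _ _ _ _ _ _ _ _ n) ≫ _ = _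
      rw [HTor49.ι_totCmpApp, Category.assoc]
      refine (congrArg (projHom f (K.X i) (L.X j) ≫ ·) (Cofan.IsColimit.fac hc _ ⟨(i, j), h⟩)).trans ?_
      rw [IsIso.hom_inv_id_assoc]
      exact (Category.comp_id _).symm
    · refine Cofan.IsColimit.hom_ext hc _ _ fun i => ?_
      rw [← Category.assoc, Cofan.IsColimit.fac, Category.assoc]
      change _ ≫ _ ≫ HTor49.totCmpApp _ _ _ _ _ _ _ _ _ _ n = _
      rw [HTor49.ι_totCmpApp, IsIso.inv_hom_id_assoc]
      exact (Category.comp_id _).symm
  exact HomologicalComplex.Hom.isIso_of_components _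

end Cx

end Groth.Agent.DPF49
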