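import Groth.Agent.DCK91.LpullTensor
import Groth.Agent.HTor49.MapTot2
import Groth.Prelude.Def_DCoh4

/-!
The projection map `N ⊗ f_* M ⟶ f_* (f^* N ⊗ M)` for modules and complexes of modules.
-/

set_option autoImplicit false
set_option backward.isDefEq.respectTransparency false
set_option linter.style.haveILetI false

noncomputable section

universe u

open CategoryTheory CategoryTheory.Limits AlgebraicGeometry
attribute [local instance] HasDerivedCategory.standard

namespace Groth.Agent.DPF49

variable {X Y : Scheme.{u}} (f : X ⟶ Y)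

local notation "p" => Scheme.Modules.pushforward f
local notation "q" => Scheme.Modules.pullback f
local notation "adj" => Scheme.Modules.pullbackPushforwardAdjunction f

/-- The transpose of the projection map. -/
def projLTr (N : Y.Modules) (M : X.Modules) :
    (q).obj ((DCoh.tensorBi.obj N).obj ((p).obj M)) ⟶ (DCoh.tensorBi.obj ((q).obj N)).obj M :=
  (DCK91.pullTensBi f N ((p).obj M)).inv ≫ (DCoh.tensorBi.obj ((q).obj N)).map ((adj).counit.app M)

/-- The projection map. -/
def projL (N : Y.Modules) (M : X.Modules) :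
    (DCoh.tensorBi.obj N).obj ((p).obj M) ⟶ (p).obj ((DCoh.tensorBi.obj ((q).obj N)).obj M) :=
  (adj).homEquiv _ _ (projLTr f N M)

lemma projLTr_left {N N' : Y.Modules} (g : N ⟶ N') (M : X.Modules) :
    (q).map ((DCoh.tensorBi.map g).app ((p).obj M)) ≫ projLTr f N' M =
      projLTr f N M ≫ (DCoh.tensorBi.map ((q).map g)).app M := by
  have h1 : (q).map ((DCoh.tensorBi.map g).app ((p).obj M)) ≫ (DCK91.pullTensBi f N' ((p).obj M)).inv =
      (DCK91.pullTensBi f N ((p).obj M)).inv ≫ (DCoh.tensorBi.map ((q).map g)).app ((q).obj ((p).obj M)) := by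
    rw [Iso.comp_inv_eq, Category.assoc, DCK91.pullTens_left, Iso.inv_hom_id_assoc]
  rw [projLTr, projLTr, reassoc_of% h1, Category.assoc]
  exact congrArg (_ ≫ ·) ((DCoh.tensorBi.map ((q).map g)).naturality ((adj).counit.app M)).symm

lemma projLTr_right (N : Y.Modules) {M M' : X.Modules} (g : M ⟶ M') :
    (q).map ((DCoh.tensorBi.obj N).map ((p).map g)) ≫ projLTr f N M' =
      projLTr f N M ≫ (DCoh.tensorBi.obj ((q).obj N)).map g := by
  have h1 : (q).map ((DCoh.tensorBi.obj N).map ((p).map g)) ≫ (DCK91.pullTensBi f N ((p).obj M')).inv =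
      (DCK91.pullTensBi f N ((p).obj M)).inv ≫ (DCoh.tensorBi.obj ((q).obj N)).map ((q).map ((p).map g)) := by
    rw [Iso.comp_inv_eq, Category.assoc, DCK91.pullTens_right, Iso.inv_hom_id_assoc]
  rw [projLTr, projLTr, reassoc_of% h1, Category.assoc, ← Functor.map_comp, ← Functor.map_comp]
  exact congrArg (fun φ => (DCK91.pullTensBi f N ((p).obj M)).inv ≫ (DCoh.tensorBi.obj ((q).obj N)).map φ)
    ((adj).counit.naturality g)

lemma projL_left {N N' : Y.Modules} (g : N ⟶ N') (M : X.Modules) :
    (DCoh.tensorBi.map g).app ((p).obj M) ≫ projL f N' M =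
      projL f N M ≫ (p).map ((DCoh.tensorBi.map ((q).map g)).app M) :=
  (((adj).homEquiv_naturality_left _ _).symm.trans (congrArg ((adj).homEquiv _ _) (projLTr_left f g M))).trans
    ((adj).homEquiv_naturality_right _ _)

lemma projL_right (N : Y.Modules) {M M' : X.Modules} (g : M ⟶ M') :
    (DCoh.tensorBi.obj N).map ((p).map g) ≫ projL f N M' =
      projL f N M ≫ (p).map ((DCoh.tensorBi.obj ((q).obj N)).map g) :=
  (((adj).homEquiv_naturality_left _ _).symm.trans (congrArg ((adj).homEquiv _ _) (projLTr_right f N g))).trans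
    ((adj).homEquiv_naturality_right _ _)

/-- The projection map on total complexes. -/
def projLCx (L : CochainComplex Y.Modules ℤ) (K : CochainComplex X.Modules ℤ) :
    (DCoh.tensorCx.obj (((𝟭 Y.Modules).mapHomologicalComplex (ComplexShape.up ℤ)).obj L)).obj
        (((p).mapHomologicalComplex (ComplexShape.up ℤ)).obj K) ⟶
      ((p).mapHomologicalComplex (ComplexShape.up ℤ)).obj
        ((DCoh.tensorCx.obj (((q).mapHomologicalComplex (ComplexShape.up ℤ)).obj L)).obj
          (((𝟭 X.Modules).mapHomologicalComplex (ComplexShape.up ℤ)).obj K)) :=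
  HTor49.totCmp (DCoh.tensorBi (X := X)) (DCoh.tensorBi (X := Y)) (q) (𝟭 X.Modules) (𝟭 Y.Modules) (p) (p)
    (projL f) (fun g M => projL_left f g M) (fun N _ _ g => projL_right f N g) L K

lemma projLCx_naturality {L L' : CochainComplex Y.Modules ℤ} (φ : L ⟶ L') (K : CochainComplex X.Modules ℤ) :
    (DCoh.tensorCx.map (((𝟭 Y.Modules).mapHomologicalComplex (ComplexShape.up ℤ)).map φ)).app
        (((p).mapHomologicalComplex (ComplexShape.up ℤ)).obj K) ≫ projLCx f L' K =
      projLCx f L K ≫ ((p).mapHomologicalComplex (ComplexShape.up ℤ)).map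
        ((DCoh.tensorCx.map (((q).mapHomologicalComplex (ComplexShape.up ℤ)).map φ)).app
          (((𝟭 X.Modules).mapHomologicalComplex (ComplexShape.up ℤ)).obj K)) := by
  have h := HTor49.totCmp_naturality (DCoh.tensorBi (X := X)) (DCoh.tensorBi (X := Y)) (q) (𝟭 X.Modules)
    (𝟭 Y.Modules) (p) (p) (projL f) (fun g M => projL_left f g M) (fun N _ _ g => projL_right f N g) L K φ (𝟙 K)
  simp only [CategoryTheory.Functor.map_id] at h
  exact h

end Groth.Agent.DPF49
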