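import Groth.Agent.GRec72.Tensor
import Groth.Agent.HTor49.BoxSec
import Groth.Agent.HTor49.MapTot2
import Groth.Agent.LimTop61.PullSec
import Groth.Agent.Coh69.TensBC.PullTens
import Groth.Prelude.Def_HTor

/-!
The base change map and the projection map of a square, described on sections.
-/

set_option autoImplicit false
set_option backward.isDefEq.respectTransparency false
set_option backward.isDefEq.respectTransparency.types false
set_option linter.style.haveILetI false

noncomputable section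

universe u

open CategoryTheory CategoryTheory.Limits Opposite AlgebraicGeometry
open Groth.Agent.QC70 Groth.Agent.QCPull72

namespace Groth.Agent.DPF49

variable {Z X₁ X₂ S : Scheme.{u}} (p : Z ⟶ X₁) (q : Z ⟶ X₂) (f₁ : X₁ ⟶ S) (f₂ : X₂ ⟶ S)

/-- The pairing underlying the projection map. -/
def pjPairing (M : X₁.Modules) (K : Z.Modules) :
    Mero90.Pairing M ((Scheme.Modules.pushforward p).obj K)
      ((Scheme.Modules.pushforward p).obj ((DCoh.tensorBi.obj ((Scheme.Modules.pullback p).obj M)).obj K)) where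
  b U m t := SecTwist.tmul ((Scheme.Modules.pullback p).obj M) K (p ⁻¹ᵁ U) (unitSec p M le_rfl m) t
  add_left U m m' n := by
    rw [LimTop61.unitSec_add]
    exact Mum71.SecTwistTmul.add_left _ _ _ _ _ _
  add_right U m n n' := Mum71.SecTwistTmul.add_right _ _ _ _ _ _
  smul_left U r m n := by
    rw [LimTop61.unitSec_smul, ← Scheme.Hom.app_eq_appLE]
    exact (congrArg (fun t => ((SecTwist.toTensor _ _).app (op (p ⁻¹ᵁ U))).hom t)
      (Mod48.tp_smul_left (O := Z.sheaf) (M := CohB1.toPMod _) (N := CohB1.toPMod _) (X := op (p ⁻¹ᵁ U)) _ _ _)).trans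
      (map_smul ((SecTwist.toTensor _ _).app (op (p ⁻¹ᵁ U))).hom _ _)
  smul_right U r m n := by
    exact (congrArg (fun t => ((SecTwist.toTensor _ _).app (op (p ⁻¹ᵁ U))).hom t)
      (Mod48.tp_smul_right (O := Z.sheaf) (M := CohB1.toPMod _) (N := CohB1.toPMod _) (X := op (p ⁻¹ᵁ U))
        (p.app U r) (unitSec p M le_rfl m) n)).trans
      (map_smul ((SecTwist.toTensor _ _).app (op (p ⁻¹ᵁ U))).hom _ _)
  nat U V h m n := by
    refine Eq.trans ?_ (SecTwist.map_tmul ((Scheme.Modules.pullback p).obj M) K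
      (homOfLE (p.preimage_mono h)) (unitSec p M le_rfl m) n).symm
    exact congrArg (fun t => SecTwist.tmul ((Scheme.Modules.pullback p).obj M) K (p ⁻¹ᵁ V) t _)
      (LimTop61.unitSec_res p M le_rfl le_rfl h (p.preimage_mono h) m)

/-- The projection map `M ⊗ p_* K ⟶ p_* (p^* M ⊗ K)`. -/
def pj (M : X₁.Modules) (K : Z.Modules) :
    (DCoh.tensorBi.obj M).obj ((Scheme.Modules.pushforward p).obj K) ⟶
      (Scheme.Modules.pushforward p).obj ((DCoh.tensorBi.obj ((Scheme.Modules.pullback p).obj M)).obj K) :=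
  (pjPairing p M K).lift

lemma pj_tmul (M : X₁.Modules) (K : Z.Modules) (U : X₁.Opens) (m : Γ(M, U)) (t : Γ(K, p ⁻¹ᵁ U)) :
    (pj p M K).app U (SecTwist.tmul M ((Scheme.Modules.pushforward p).obj K) U m t) =
      SecTwist.tmul ((Scheme.Modules.pullback p).obj M) K (p ⁻¹ᵁ U) (unitSec p M le_rfl m) t :=
  (pjPairing p M K).lift_tmul U m t

lemma tensorBi_left_tmul {X : Scheme.{u}} {A A' : X.Modules} (g : A ⟶ A') (B : X.Modules) (U : X.Opens)
    (a : Γ(A, U)) (b : Γ(B, U)) :
    ((DCoh.tensorBi.map g).app B).app U (SecTwist.tmul A B U a b) = SecTwist.tmul A' B U (g.app U a) b :=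
  Mum71.tensorRightMod_map_tmul B g U a b

lemma pj_left {M M' : X₁.Modules} (g : M ⟶ M') (K : Z.Modules) :
    (DCoh.tensorBi.map g).app ((Scheme.Modules.pushforward p).obj K) ≫ pj p M' K =
      pj p M K ≫ (Scheme.Modules.pushforward p).map
        ((DCoh.tensorBi.map ((Scheme.Modules.pullback p).map g)).app K) := by
  refine GRec72.hom_ext_tmul fun U m t => ?_
  refine (congrArg ((pj p M' K).app U) (tensorBi_left_tmul g _ U m t)).trans ?_
  refine (pj_tmul p M' K U (g.app U m) t).trans (Eq.symm ?_)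
  refine (congrArg (((DCoh.tensorBi.map ((Scheme.Modules.pullback p).map g)).app K).app (p ⁻¹ᵁ U))
    (pj_tmul p M K U m t)).trans ?_
  refine (tensorBi_left_tmul ((Scheme.Modules.pullback p).map g) K (p ⁻¹ᵁ U) _ t).trans ?_
  exact congrArg (fun s => SecTwist.tmul ((Scheme.Modules.pullback p).obj M') K (p ⁻¹ᵁ U) s t)
    (LimTop61.pullback_map_app_unitSec p g le_rfl m)

lemma pj_right (M : X₁.Modules) {K K' : Z.Modules} (g : K ⟶ K') :
    (DCoh.tensorBi.obj M).map ((Scheme.Modules.pushforward p).map g) ≫ pj p M K' =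
      pj p M K ≫ (Scheme.Modules.pushforward p).map ((DCoh.tensorBi.obj ((Scheme.Modules.pullback p).obj M)).map g) := by
  refine GRec72.hom_ext_tmul fun U m t => ?_
  refine (congrArg ((pj p M K').app U) (Coh69.TensBC.tensorBi_map_tmul M _ U m t)).trans ?_
  refine (pj_tmul p M K' U m _).trans (Eq.symm ?_)
  refine (congrArg (((DCoh.tensorBi.obj ((Scheme.Modules.pullback p).obj M)).map g).app (p ⁻¹ᵁ U))
    (pj_tmul p M K U m t)).trans ?_
  exact Coh69.TensBC.tensorBi_map_tmul _ g (p ⁻¹ᵁ U) _ t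

lemma homEquiv_symm_unitSec {P Q : Scheme.{u}} (g : Q ⟶ P) {M : P.Modules} {L : Q.Modules}
    (k : M ⟶ (Scheme.Modules.pushforward g).obj L) {U : P.Opens} {W : Q.Opens} (hW : W ≤ g ⁻¹ᵁ U) (x : Γ(M, U)) :
    (((Scheme.Modules.pullbackPushforwardAdjunction g).homEquiv M L).symm k).app W (unitSec g M hW x) =
      res L hW (k.app U x) := by
  rw [unitSec, app_res]
  have h1 := ((Scheme.Modules.pullbackPushforwardAdjunction g).homEquiv M L).apply_symm_apply k
  rw [Adjunction.homEquiv_unit] at h1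
  exact congrArg _ congr(Scheme.Modules.Hom.app $h1 U x)

lemma res_unitSec {P Q : Scheme.{u}} (g : Q ⟶ P) (M : P.Modules) {U : P.Opens} {W W' : Q.Opens}
    (e : W ≤ g ⁻¹ᵁ U) (e' : W' ≤ g ⁻¹ᵁ U) (h : W' ≤ W) (x : Γ(M, U)) :
    res ((Scheme.Modules.pullback g).obj M) h (unitSec g M e x) = unitSec g M e' x := by
  rw [unitSec, unitSec]
  exact res_res _ _ _

variable (w : p ≫ f₁ = q ≫ f₂)

/-- The map `f₂_* N ⟶ f₁_* p_* q^* N`. -/
def bcK : Scheme.Modules.pushforward f₂ ⟶
    (Scheme.Modules.pullback q ⋙ Scheme.Modules.pushforward p) ⋙ Scheme.Modules.pushforward f₁ where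
  app N := (Scheme.Modules.pushforward f₂).map (pullUnit q N) ≫
    (Scheme.Modules.pushforwardComp q f₂).hom.app _ ≫ (Scheme.Modules.pushforwardCongr w.symm).hom.app _ ≫
    (Scheme.Modules.pushforwardComp p f₁).inv.app _
  naturality {N N'} g := by
    have h1 : g ≫ pullUnit q N' =
        pullUnit q N ≫ (Scheme.Modules.pushforward q).map ((Scheme.Modules.pullback q).map g) :=
      (Scheme.Modules.pullbackPushforwardAdjunction q).unit.naturality g
    rw [← Functor.map_comp_assoc, h1, Functor.map_comp_assoc, Category.assoc, Category.assoc, Category.assoc]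
    refine congrArg ((Scheme.Modules.pushforward f₂).map (pullUnit q N) ≫ ·) ?_
    refine ((Scheme.Modules.pushforwardComp q f₂).hom.naturality_assoc _ _).trans ?_
    refine congrArg ((Scheme.Modules.pushforwardComp q f₂).hom.app _ ≫ ·) ?_
    refine ((Scheme.Modules.pushforwardCongr w.symm).hom.naturality_assoc _ _).trans ?_
    exact congrArg ((Scheme.Modules.pushforwardCongr w.symm).hom.app _ ≫ ·)
      ((Scheme.Modules.pushforwardComp p f₁).inv.naturality _)

/-- The base change map `f₁^* f₂_* N ⟶ p_* q^* N`. -/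
def bcT : Scheme.Modules.pushforward f₂ ⋙ Scheme.Modules.pullback f₁ ⟶
    Scheme.Modules.pullback q ⋙ Scheme.Modules.pushforward p where
  app N := ((Scheme.Modules.pullbackPushforwardAdjunction f₁).homEquiv _ _).symm ((bcK p q f₁ f₂ w).app N)
  naturality {N N'} g := by
    refine ((Scheme.Modules.pullbackPushforwardAdjunction f₁).homEquiv_naturality_left_symm _ _).symm.trans
      ((congrArg _ ((bcK p q f₁ f₂ w).naturality g)).trans
        ((Scheme.Modules.pullbackPushforwardAdjunction f₁).homEquiv_naturality_right_symm _ _))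

lemma bcK_app (N : X₂.Modules) (V : S.Opens) (y : Γ(N, f₂ ⁻¹ᵁ V))
    (e : p ⁻¹ᵁ (f₁ ⁻¹ᵁ V) ≤ q ⁻¹ᵁ (f₂ ⁻¹ᵁ V)) :
    ((bcK p q f₁ f₂ w).app N).app V y = unitSec q N e y := by
  simp only [bcK, Scheme.Modules.Hom.comp_app, Scheme.Modules.pushforwardComp_hom_app_app,
    Scheme.Modules.pushforwardComp_inv_app_app, Scheme.Modules.pushforwardCongr_hom_app_app]
  rfl

lemma bcT_unitSec (N : X₂.Modules) {V : S.Opens} {W : X₁.Opens} (hW : W ≤ f₁ ⁻¹ᵁ V)
    (e : p ⁻¹ᵁ W ≤ q ⁻¹ᵁ (f₂ ⁻¹ᵁ V)) (y : Γ(N, f₂ ⁻¹ᵁ V)) :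
    ((bcT p q f₁ f₂ w).app N).app W (unitSec f₁ ((Scheme.Modules.pushforward f₂).obj N) hW y) =
      unitSec q N e y := by
  have e' : p ⁻¹ᵁ (f₁ ⁻¹ᵁ V) ≤ q ⁻¹ᵁ (f₂ ⁻¹ᵁ V) := fun z hz => by
    show (q ≫ f₂) z ∈ V
    rw [← w]
    exact hz
  refine (homEquiv_symm_unitSec f₁ ((bcK p q f₁ f₂ w).app N) hW y).trans ?_
  refine (congrArg (res ((Scheme.Modules.pushforward p).obj ((Scheme.Modules.pullback q).obj N)) hW)
    (bcK_app p q f₁ f₂ w N V y e')).trans ?_
  exact res_unitSec q N e' e (p.preimage_mono hW) y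

/-- The comparison `M ⊗ f₁^* f₂_* N ⟶ p_* (p^* M ⊗ q^* N)`. -/
def cMod (M : X₁.Modules) (N : X₂.Modules) :
    (DCoh.tensorBi.obj M).obj ((Scheme.Modules.pushforward f₂ ⋙ Scheme.Modules.pullback f₁).obj N) ⟶
      (Scheme.Modules.pushforward p).obj
        ((DCoh.tensorBi.obj ((Scheme.Modules.pullback p).obj M)).obj ((Scheme.Modules.pullback q).obj N)) :=
  (DCoh.tensorBi.obj M).map ((bcT p q f₁ f₂ w).app N) ≫ pj p M _

lemma cMod_left {M M' : X₁.Modules} (g : M ⟶ M') (N : X₂.Modules) :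
    (DCoh.tensorBi.map g).app ((Scheme.Modules.pushforward f₂ ⋙ Scheme.Modules.pullback f₁).obj N) ≫
        cMod p q f₁ f₂ w M' N =
      cMod p q f₁ f₂ w M N ≫ (Scheme.Modules.pushforward p).map
        ((DCoh.tensorBi.map ((Scheme.Modules.pullback p).map g)).app ((Scheme.Modules.pullback q).obj N)) := by
  rw [cMod, cMod, Category.assoc, ← pj_left, ← Category.assoc, ← Category.assoc]
  exact congrArg (· ≫ pj p M' _) ((DCoh.tensorBi.map g).naturality ((bcT p q f₁ f₂ w).app N)).symm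

lemma cMod_right (M : X₁.Modules) {N N' : X₂.Modules} (g : N ⟶ N') :
    (DCoh.tensorBi.obj M).map ((Scheme.Modules.pushforward f₂ ⋙ Scheme.Modules.pullback f₁).map g) ≫
        cMod p q f₁ f₂ w M N' =
      cMod p q f₁ f₂ w M N ≫ (Scheme.Modules.pushforward p).map
        ((DCoh.tensorBi.obj ((Scheme.Modules.pullback p).obj M)).map ((Scheme.Modules.pullback q).map g)) := by
  rw [cMod, cMod, Category.assoc, ← pj_right, ← Category.assoc, ← Category.assoc, ← Functor.map_comp,
    ← Functor.map_comp]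
  exact congrArg (fun t => (DCoh.tensorBi.obj M).map t ≫ pj p M _) ((bcT p q f₁ f₂ w).naturality g)

lemma cMod_tmul (M : X₁.Modules) (N : X₂.Modules) {V : S.Opens} {W : X₁.Opens} (hW : W ≤ f₁ ⁻¹ᵁ V)
    (e : p ⁻¹ᵁ W ≤ q ⁻¹ᵁ (f₂ ⁻¹ᵁ V)) (x : Γ(M, W)) (y : Γ(N, f₂ ⁻¹ᵁ V)) :
    (cMod p q f₁ f₂ w M N).app W
        (SecTwist.tmul M ((Scheme.Modules.pullback f₁).obj ((Scheme.Modules.pushforward f₂).obj N)) W x
          (unitSec f₁ ((Scheme.Modules.pushforward f₂).obj N) hW y)) =
      HTor49.bx M N (le_refl (p ⁻¹ᵁ W)) e x y := by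
  refine (congrArg ((pj p M _).app W) ((Coh69.TensBC.tensorBi_map_tmul M ((bcT p q f₁ f₂ w).app N) W x _).trans
    (congrArg (SecTwist.tmul M _ W x) (bcT_unitSec p q f₁ f₂ w N hW e y)))).trans ?_
  exact pj_tmul p M _ W x _

/-- The comparison on complexes. -/
def cCx (P : CochainComplex X₁.Modules ℤ) (N : CochainComplex X₂.Modules ℤ) :=
  HTor49.totCmp (DCoh.tensorBi (X := Z)) (DCoh.tensorBi (X := X₁)) (Scheme.Modules.pullback p)
    (Scheme.Modules.pullback q) (𝟭 X₁.Modules) (Scheme.Modules.pushforward f₂ ⋙ Scheme.Modules.pullback f₁)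
    (Scheme.Modules.pushforward p) (cMod p q f₁ f₂ w) (fun g N => cMod_left p q f₁ f₂ w g N)
    (fun M _ _ g => cMod_right p q f₁ f₂ w M g) P N

/-- The source of the comparison. -/
abbrev cSrc (P : CochainComplex X₁.Modules ℤ) : CochainComplex X₂.Modules ℤ ⥤ CochainComplex X₁.Modules ℤ :=
  (Scheme.Modules.pushforward f₂).mapHomologicalComplex (ComplexShape.up ℤ) ⋙
    HTor.pullCx f₁ ⋙ DCoh.tensorCx.obj P

/-- The target of the comparison. -/
abbrev cTgt (P : CochainComplex X₁.Modules ℤ) : CochainComplex X₂.Modules ℤ ⥤ CochainComplex Z.Modules ℤ :=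
  HTor.pullCx q ⋙ DCoh.tensorCx.obj ((HTor.pullCx p).obj P)

/-- The comparison, natural in the complex on the second factor. -/
def cNat (P : CochainComplex X₁.Modules ℤ) :
    cSrc f₁ f₂ P ⟶ cTgt p q P ⋙ (Scheme.Modules.pushforward p).mapHomologicalComplex (ComplexShape.up ℤ) where
  app N := cCx p q f₁ f₂ w P N
  naturality N N' φ := by
    have h := HTor49.totCmp_naturality (DCoh.tensorBi (X := Z)) (DCoh.tensorBi (X := X₁))
      (Scheme.Modules.pullback p) (Scheme.Modules.pullback q) (𝟭 X₁.Modules)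
      (Scheme.Modules.pushforward f₂ ⋙ Scheme.Modules.pullback f₁) (Scheme.Modules.pushforward p)
      (cMod p q f₁ f₂ w) (fun g N => cMod_left p q f₁ f₂ w g N) (fun M _ _ g => cMod_right p q f₁ f₂ w M g)
      P N (𝟙 P) φ
    simp only [CategoryTheory.Functor.map_id] at h
    exact h

end Groth.Agent.DPF49
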